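import Groth.Agent.LcRepLib.Punct

/-!
# Sections of a represented finite locally constant abelian sheaf are points
-/

set_option autoImplicit false
set_option linter.all false
set_option backward.isDefEq.respectTransparency false
set_option backward.isDefEq.respectTransparency.types false
set_option synthInstance.maxHeartbeats 400000
set_option maxHeartbeats 1000000

universe u

open CategoryTheory CategoryTheory.Limits AlgebraicGeometry Opposite TopologicalSpace
open Groth.Agent.EtShLib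

noncomputable section

namespace LcRepLib

variable {S : Scheme.{u}} {F : EtCoh.Ab S} (U : S.Etale) (σ : ToType (F.obj.obj (op U)))
  (hU : ∀ (Ω : Type u) [Field Ω] [IsSepClosed Ω] (ξ : Spec (CommRingCat.of Ω) ⟶ S),
    Function.Bijective fun x : Fib ξ U => germ ξ F U x σ)

include hU in
theorem bijective_pullSection [IsFinite U.hom] (V : S.Etale) :
    Function.Bijective fun a : V ⟶ U => F.obj.map a.op σ := by
  haveI := etale_hom U
  haveI := etale_hom V
  constructor
  · intro a b e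
    refine MorphismProperty.Over.Hom.ext (eq_of_geometric U.hom _ _
      ((MorphismProperty.Over.w a).trans (MorphismProperty.Over.w b).symm) fun Ω _ _ t => ?_)
    let z : Fib (t ≫ V.hom) V := Fib.mk t rfl
    have h1 := congrArg (germ _ F V z) e
    simp only [germ_res_apply] at h1
    exact congrArg (fun x : Fib _ U => x.hom) ((hU Ω _).1 h1)
  intro t
  haveI : AlgebraicGeometry.Etale (pullback.fst V.hom U.hom ≫ V.hom) := inferInstance
  let P : S.Etale := Scheme.Etale.mk (pullback.fst V.hom U.hom ≫ V.hom)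
  let p₁ : P ⟶ V := MorphismProperty.Over.homMk (pullback.fst V.hom U.hom) rfl
  let p₂ : P ⟶ U := MorphismProperty.Over.homMk (pullback.snd V.hom U.hom) pullback.condition.symm
  let δ : ToType (F.obj.obj (op P)) := F.obj.map p₁.op t - F.obj.map p₂.op σ
  let Z := zeroLocus F P δ
  let zh : Z.toScheme ⟶ V.left := Z.ι ≫ pullback.fst V.hom U.hom
  have hδ : ∀ (Ω : Type u) [Field Ω] [IsSepClosed Ω] (ξ : Spec (CommRingCat.of Ω) ⟶ S) (x : Fib ξ P),
      x.pt ∈ Z ↔ germ ξ F V (x.map p₁) t = germ ξ F U (x.map p₂) σ := fun Ω _ _ ξ x => by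
    rw [mem_zeroLocus_iff, map_sub, germ_res_apply, germ_res_apply, sub_eq_zero]
  haveI : AlgebraicGeometry.Etale (Z.ι ≫ pullback.fst V.hom U.hom ≫ V.hom) := inferInstance
  haveI : AlgebraicGeometry.Etale zh := by
    haveI : AlgebraicGeometry.Etale (zh ≫ V.hom) := by rw [Category.assoc]; infer_instance
    exact AlgebraicGeometry.Etale.of_comp zh V.hom
  have hinj : ∀ (Ω : Type u) [Field Ω] [IsSepClosed Ω] (t₁ t₂ : Spec (CommRingCat.of Ω) ⟶ Z.toScheme),
      t₁ ≫ zh = t₂ ≫ zh → t₁ = t₂ := by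
    intro Ω _ _ t₁ t₂ e
    have e1 : (t₁ ≫ Z.ι) ≫ pullback.fst V.hom U.hom = (t₂ ≫ Z.ι) ≫ pullback.fst V.hom U.hom := by
      simpa [zh] using e
    let ξ := (t₁ ≫ Z.ι) ≫ pullback.fst V.hom U.hom ≫ V.hom
    let x₁ : Fib ξ P := Fib.mk (t₁ ≫ Z.ι) rfl
    let x₂ : Fib ξ P := Fib.mk (t₂ ≫ Z.ι) ((Category.assoc _ _ _).symm.trans
      ((congrArg (· ≫ V.hom) e1.symm).trans (Category.assoc _ _ _)))
    have h₁ := (hδ Ω ξ x₁).1 (by
      show (t₁ ≫ Z.ι).base default ∈ Z
      rw [Scheme.Hom.comp_apply]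
      exact (t₁.base default).2)
    have h₂ := (hδ Ω ξ x₂).1 (by
      show (t₂ ≫ Z.ι).base default ∈ Z
      rw [Scheme.Hom.comp_apply]
      exact (t₂.base default).2)
    rw [show x₂.map p₁ = x₁.map p₁ from Fib.ext e1.symm] at h₂
    have h3 := (hU Ω ξ).1 (h₁.symm.trans h₂)
    rw [← cancel_mono Z.ι]
    exact pullback.hom_ext e1 (congrArg (fun x : Fib ξ U => x.hom) h3)
  haveI : Mono zh := ⟨fun {T} a b e => eq_of_geometric zh a b e fun Ω _ _ q =>
    hinj Ω _ _ (by rw [Category.assoc, Category.assoc, e])⟩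
  haveI : Surjective zh := ⟨fun y => by
    obtain ⟨Ω, _, _, q, hq⟩ := exists_geometric_pt y
    let v : Fib (q ≫ V.hom) V := Fib.mk q rfl
    obtain ⟨w, hw⟩ := (hU Ω _).2 (germ _ F V v t)
    let x : Fib (q ≫ V.hom) P := Fib.mk (pullback.lift q w.hom w.w.symm) (pullback.lift_fst_assoc _ _ _ _)
    have hx : x.pt ∈ Z := (hδ Ω _ x).2 (by
      rw [show x.map p₁ = v from Fib.ext (pullback.lift_fst _ _ _),
        show x.map p₂ = w from Fib.ext (pullback.lift_snd _ _ _)]
      exact hw.symm)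
    refine ⟨⟨x.pt, hx⟩, ?_⟩
    rw [Scheme.Hom.comp_apply, ← hq]
    exact (Scheme.Hom.comp_apply _ _ _).symm.trans (congrArg (fun z : _ ⟶ V.left => z.base default)
      (pullback.lift_fst q w.hom w.w.symm))⟩
  haveI : IsOpenImmersion zh := IsOpenImmersion.of_flat_of_mono _
  haveI := isIso_of_diag zh
  let a : V ⟶ U := MorphismProperty.Over.homMk (inv zh ≫ Z.ι ≫ pullback.snd V.hom U.hom) (by
    rw [Category.assoc, Category.assoc, ← pullback.condition, IsIso.inv_comp_eq]
    simp [zh])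
  refine ⟨a, eq_of_germ F _ _ fun Ω _ _ ξ v => ?_⟩
  let x : Fib ξ P := Fib.mk (v.hom ≫ inv zh ≫ Z.ι) (by
    show (v.hom ≫ inv zh ≫ Z.ι) ≫ pullback.fst V.hom U.hom ≫ V.hom = ξ
    rw [Category.assoc, Category.assoc, ← Category.assoc Z.ι, IsIso.inv_hom_id_assoc]
    exact v.w)
  have hx := (hδ Ω ξ x).1 (by
    show (v.hom ≫ inv zh ≫ Z.ι).base default ∈ Z
    rw [← Category.assoc, Scheme.Hom.comp_apply]
    exact ((v.hom ≫ inv zh).base default).2)
  rw [show x.map p₁ = v from Fib.ext ((Category.assoc _ _ _).trans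
    ((congrArg (v.hom ≫ ·) ((Category.assoc _ _ _).trans (IsIso.inv_hom_id zh))).trans (Category.comp_id _)))] at hx
  rw [germ_res_apply, hx]
  refine congrArg (fun y => germ ξ F U y σ) (Fib.ext ?_)
  show v.hom ≫ inv zh ≫ Z.ι ≫ pullback.snd V.hom U.hom = (v.hom ≫ inv zh ≫ Z.ι) ≫ pullback.snd V.hom U.hom
  simp only [Category.assoc]

include hU in
/-- The functor of points of `U` is the underlying presheaf of sets of `F`. -/
theorem nonempty_iso_yoneda [IsFinite U.hom] :
    Nonempty (F.obj ⋙ forget AddCommGrpCat.{u + 1} ≅ yoneda.obj U ⋙ uliftFunctor.{u + 1}) :=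
  ⟨(NatIso.ofComponents (fun V => (Equiv.ulift.trans
      (Equiv.ofBijective _ (bijective_pullSection U σ hU V.unop))).toIso)
    (fun {V V'} k => by
      ext a
      exact ConcreteCategory.congr_hom (F.obj.map_comp a.down.op k) σ)).symm⟩

end LcRepLib
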