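import Groth.Agent.LcRepLib.Main
import Groth.Agent.EtShLib.LocConst

/-!
# The finite étale scheme of nonzero elements of a finite locally constant abelian sheaf
-/

set_option autoImplicit false
set_option linter.all false
set_option backward.isDefEq.respectTransparency false
set_option backward.isDefEq.respectTransparency.types false
set_option synthInstance.maxHeartbeats 400000
set_option maxHeartbeats 1000000

universe u

open CategoryTheory CategoryTheory.Limits AlgebraicGeometry Opposite TopologicalSpace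
open Groth.Agent.EtShLib

noncomputable section

namespace LcRepLib

variable {S : Scheme.{u}}

/-- The underlying sheaf of sets. -/
abbrev setSh (F : EtCoh.Ab S) : EtDesc.Sh S :=
  (sheafCompose S.smallEtaleTopology (forget AddCommGrpCat.{u + 1})).obj F

/-- A section, as an element of the underlying sheaf of sets. -/
abbrev toSet (F : EtCoh.Ab S) {U : S.Etale} (s : ToType (F.obj.obj (op U))) : ToType ((setSh F).obj.obj (op U)) := s

theorem germ_set_eq_iff (F : EtCoh.Ab S) {Ω : Type u} [Field Ω] [IsSepClosed Ω]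
    (ξ : Spec (CommRingCat.of Ω) ⟶ S) {U V : S.Etale} (x : Fib ξ U) (y : Fib ξ V)
    (s : ToType (F.obj.obj (op U))) (t : ToType (F.obj.obj (op V))) :
    germ ξ (setSh F) U x (toSet F s) = germ ξ (setSh F) V y (toSet F t) ↔ germ ξ F U x s = germ ξ F V y t := by
  obtain ⟨⟨W, w⟩, g, k, -⟩ := IsCofilteredOrEmpty.cone_objs ((pt ξ).fiber.elementsMk U x) ((pt ξ).fiber.elementsMk V y)
  have hg : Fib.map g.1 w = x := g.2
  have hk : Fib.map k.1 w = y := k.2
  rw [← hg, ← hk, ← germ_res_apply, ← germ_res_apply, ← germ_res_apply, ← germ_res_apply]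
  refine (germ_eq_iff ξ W w _ _).trans (Iff.trans ?_ (germ_eq_iff (F := F) ξ W w _ _).symm)
  exact Iff.rfl

theorem bijective_germ_set_iff (F : EtCoh.Ab S) {Ω : Type u} [Field Ω] [IsSepClosed Ω]
    (ξ : Spec (CommRingCat.of Ω) ⟶ S) {K : Type*} (V : K → S.Etale) (y : ∀ k, Fib ξ (V k))
    (t : ∀ k, ToType (F.obj.obj (op (V k)))) :
    Function.Bijective (fun k => germ ξ (setSh F) (V k) (y k) (toSet F (t k))) ↔
      Function.Bijective fun k => germ ξ F (V k) (y k) (t k) := by
  constructor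
  · refine fun h => ⟨fun a b e => h.1 ((germ_set_eq_iff F ξ _ _ _ _).2 e), fun z => ?_⟩
    obtain ⟨W, w, s, rfl⟩ := exists_germ ξ z
    obtain ⟨k, hk⟩ := h.2 (germ ξ (setSh F) W w (toSet F s))
    exact ⟨k, (germ_set_eq_iff F ξ _ _ _ _).1 hk⟩
  · refine fun h => ⟨fun a b e => h.1 ((germ_set_eq_iff F ξ _ _ _ _).1 e), fun z => ?_⟩
    obtain ⟨W, w, s, rfl⟩ := exists_germ (F := setSh F) ξ z
    obtain ⟨k, hk⟩ := h.2 (germ ξ F W w s)
    exact ⟨k, (germ_set_eq_iff F ξ _ _ _ _).2 hk⟩

/-- A finite locally constant abelian sheaf has a finite étale scheme with a universal section. -/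
theorem exists_finite_rep_ab (F : EtCoh.Ab S) (hF : LC (fun M : AddCommGrpCat.{u + 1} => Finite M) F) :
    ∃ (U : S.Etale) (σ : ToType (F.obj.obj (op U))), IsFinite U.hom ∧
      ∀ (Ω : Type u) [Field Ω] [IsSepClosed Ω] (ξ : Spec (CommRingCat.of Ω) ⟶ S),
        Function.Bijective fun x : Fib ξ U => germ ξ F U x σ := by
  choose U y M η hy hM hη using hF
  have he : ∀ i, ∃ n, Nonempty (M i ≃ Fin n) := fun i =>
    haveI : Finite (M i) := hM i
    Finite.exists_equiv_fin _
  choose n en using he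
  obtain ⟨V, σ, hV, hb⟩ := exists_finite_rep_of_enum (F := setSh F) (U := U) (fun x => ⟨x, y x, hy x⟩) n
    (fun i k => toSet F (η i ((en i).some.symm k))) fun i Ω _ _ ξ a => by
      haveI := hη i Ω ξ a
      exact (bijective_germ_set_iff F ξ (fun _ => U i) (fun _ => a) _).2
        ((ConcreteCategory.bijective_of_isIso (η i ≫ germ ξ F (U i) a)).comp (en i).some.symm.bijective)
  exact ⟨V, σ, hV, fun Ω _ _ ξ => (bijective_germ_set_iff F ξ (fun _ : Fib ξ V => V) (fun a => a) (fun _ => σ)).1 (hb Ω ξ)⟩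

/-- The zero locus of a section. -/
def zeroLocus (F : EtCoh.Ab S) (U : S.Etale) (σ : ToType (F.obj.obj (op U))) : U.left.Opens :=
  ⟨⋃ d : {d : Σ V : S.Etale, V ⟶ U // F.obj.map d.2.op σ = 0}, Set.range d.1.2.left.base,
    isOpen_iUnion fun d => by
      haveI := etale_hom d.1.1
      haveI := etale_hom U
      haveI : AlgebraicGeometry.Etale (d.1.2.left ≫ U.hom) := by
        rw [show d.1.2.left ≫ U.hom = d.1.1.hom from MorphismProperty.Over.w d.1.2]
        infer_instance
      haveI : AlgebraicGeometry.Etale d.1.2.left := AlgebraicGeometry.Etale.of_comp d.1.2.left U.hom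
      exact d.1.2.left.isOpenMap.isOpen_range⟩

theorem mem_zeroLocus_iff (F : EtCoh.Ab S) (U : S.Etale) (σ : ToType (F.obj.obj (op U))) {Ω : Type u} [Field Ω]
    [IsSepClosed Ω] {ξ : Spec (CommRingCat.of Ω) ⟶ S} (x : Fib ξ U) :
    x.pt ∈ zeroLocus F U σ ↔ germ ξ F U x σ = 0 := by
  constructor
  · intro h
    obtain ⟨⟨⟨V, g⟩, hg⟩, y, hy⟩ := Set.mem_iUnion.1 h
    haveI := etale_hom V
    haveI := etale_hom U
    haveI : AlgebraicGeometry.Etale (g.left ≫ U.hom) := by
      rw [show g.left ≫ U.hom = V.hom from MorphismProperty.Over.w g]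
      infer_instance
    haveI : AlgebraicGeometry.Etale g.left := AlgebraicGeometry.Etale.of_comp g.left U.hom
    obtain ⟨l, hl, -⟩ := exists_lift_geometric g.left x.hom y hy
    let y' : Fib ξ V := Fib.mk l (by
      rw [← MorphismProperty.Over.w g, ← Category.assoc, hl]
      exact x.w)
    rw [← show y'.map g = x from Fib.ext hl, ← germ_res_apply]
    exact (congrArg (germ ξ F V y') hg).trans (map_zero _)
  · intro h
    obtain ⟨V, g, y, hy, e⟩ := (germ_eq_iff ξ U x σ 0).1 (h.trans (map_zero _).symm)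
    refine Set.mem_iUnion.2 ⟨⟨⟨V, g⟩, e.trans (map_zero _)⟩, y.pt, ?_⟩
    rw [← hy]
    rfl

/-- The scheme of nonzero elements. -/
theorem exists_nonzero (F : EtCoh.Ab S) (hF : LC (fun M : AddCommGrpCat.{u + 1} => Finite M) F) :
    ∃ (T : Scheme.{u}) (f : T ⟶ S) (_ : IsFinite f) (_ : AlgebraicGeometry.Etale f)
      (s : ToType (((EtCoh.pull f).obj F).obj.obj (op (EtCoh.top T)))),
      (∀ (Ω : Type u) [Field Ω] [IsSepClosed Ω] (η : Spec (CommRingCat.of Ω) ⟶ S),
        Nat.card {t : Spec (CommRingCat.of Ω) ⟶ T // t ≫ f = η} =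
          Nat.card ((stk (A := AddCommGrpCat.{u + 1}) η).obj F) - 1) ∧
      ∀ (Ω : Type u) [Field Ω] [IsSepClosed Ω] (ζ : Spec (CommRingCat.of Ω) ⟶ T) (x : Fib ζ (EtCoh.top T)),
        germ ζ ((EtCoh.pull f).obj F) (EtCoh.top T) x s ≠ 0 := by
  obtain ⟨U, σ, hU, hb⟩ := exists_finite_rep_ab F hF
  haveI := hU
  haveI := etale_hom U
  let Z := zeroLocus F U σ
  let zh : Z.toScheme ⟶ S := Z.ι ≫ U.hom
  have hinj : ∀ (Ω : Type u) [Field Ω] [IsSepClosed Ω] (t₁ t₂ : Spec (CommRingCat.of Ω) ⟶ Z.toScheme),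
      t₁ ≫ zh = t₂ ≫ zh → t₁ = t₂ := by
    intro Ω _ _ t₁ t₂ e
    rw [← cancel_mono Z.ι]
    let x₁ : Fib (t₁ ≫ zh) U := Fib.mk (t₁ ≫ Z.ι) (Category.assoc _ _ _)
    let x₂ : Fib (t₁ ≫ zh) U := Fib.mk (t₂ ≫ Z.ι) ((Category.assoc _ _ _).trans e.symm)
    have h₁ : germ _ F U x₁ σ = 0 := (mem_zeroLocus_iff F U σ x₁).1 (by
      show (t₁ ≫ Z.ι).base default ∈ Z
      rw [Scheme.Hom.comp_apply]
      exact (t₁.base default).2)
    have h₂ : germ _ F U x₂ σ = 0 := (mem_zeroLocus_iff F U σ x₂).1 (by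
      show (t₂ ≫ Z.ι).base default ∈ Z
      rw [Scheme.Hom.comp_apply]
      exact (t₂.base default).2)
    exact congrArg (fun x : Fib _ U => x.hom) ((hb Ω _).1 (a₁ := x₁) (a₂ := x₂) (h₁.trans h₂.symm))
  haveI : Mono zh := ⟨fun {T} a b e => eq_of_geometric zh a b e fun Ω _ _ t =>
    hinj Ω _ _ (by rw [Category.assoc, Category.assoc, e])⟩
  haveI : Surjective zh := ⟨fun y => by
    obtain ⟨Ω, _, _, ξ, hξ⟩ := exists_geometric_pt y
    obtain ⟨x, hx⟩ := (hb Ω ξ).2 0
    refine ⟨⟨x.pt, (mem_zeroLocus_iff F U σ x).2 hx⟩, ?_⟩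
    rw [Scheme.Hom.comp_apply, ← hξ]
    exact congrArg (fun z : Spec (CommRingCat.of Ω) ⟶ S => z.base default) x.w⟩
  haveI : IsOpenImmersion zh := IsOpenImmersion.of_flat_of_mono _
  haveI := isIso_of_diag zh
  let z : S ⟶ U.left := inv zh ≫ Z.ι
  haveI : IsClosedImmersion (z ≫ U.hom) := by
    rw [show z ≫ U.hom = 𝟙 S by simp [z, zh]]
    infer_instance
  haveI : IsClosedImmersion z := IsClosedImmersion.of_comp z U.hom
  have hrange : Set.range z.base = (Z : Set U.left) := by
    ext p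
    constructor
    · rintro ⟨q, rfl⟩
      show (inv zh ≫ Z.ι).base q ∈ Z
      rw [Scheme.Hom.comp_apply]
      exact ((inv zh).base q).2
    · intro hp
      exact ⟨zh.base ⟨p, hp⟩, by
        rw [← Scheme.Hom.comp_apply, IsIso.hom_inv_id_assoc]
        rfl⟩
  let O : U.left.Opens := ⟨(Z : Set U.left)ᶜ, by
    rw [← hrange]
    exact z.isClosedEmbedding.isClosed_range.isOpen_compl⟩
  haveI : IsClosedImmersion O.ι := by
    refine IsClosedImmersion.of_isPreimmersion _ ?_
    rw [Scheme.Opens.range_ι]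
    exact Z.2.isClosed_compl
  let f : O.toScheme ⟶ S := O.ι ≫ U.hom
  haveI : IsFinite f := inferInstanceAs (IsFinite (O.ι ≫ U.hom))
  haveI : AlgebraicGeometry.Etale f := inferInstanceAs (AlgebraicGeometry.Etale (O.ι ≫ U.hom))
  let d : EtCoh.top O.toScheme ⟶ (EtCoh.bc f).obj U :=
    MorphismProperty.Over.homMk (pullback.lift O.ι (𝟙 _) (Category.id_comp f).symm) (pullback.lift_snd _ _ _)
  refine ⟨O.toScheme, f, inferInstance, inferInstance,
    ((EtCoh.pull f).obj F).obj.map d.op (((EtCoh.pullPushAdj f).unit.app F).hom.app (op U) σ),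
    fun Ω _ _ η => ?_, fun Ω _ _ ζ x => ?_⟩
  · let e₁ : {t : Spec (CommRingCat.of Ω) ⟶ O.toScheme // t ≫ f = η} ≃
        {x : Fib η U // ¬ germ η F U x σ = 0} :=
      { toFun := fun t => ⟨Fib.mk (t.1 ≫ O.ι) ((Category.assoc _ _ _).trans t.2), fun hz => by
          have := (mem_zeroLocus_iff F U σ _).2 hz
          change (t.1 ≫ O.ι).base default ∈ Z at this
          rw [Scheme.Hom.comp_apply] at this
          exact (t.1.base default).2 this⟩
        invFun := fun x => ⟨IsOpenImmersion.lift O.ι x.1.hom (by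
            rintro _ ⟨q, rfl⟩
            rw [Scheme.Opens.range_ι, Subsingleton.elim q default]
            exact fun hq => x.2 ((mem_zeroLocus_iff F U σ x.1).1 hq)), by
          show _ ≫ O.ι ≫ U.hom = η
          rw [IsOpenImmersion.lift_fac_assoc]
          exact x.1.w⟩
        left_inv := fun t => Subtype.ext ((cancel_mono O.ι).1 (IsOpenImmersion.lift_fac _ _ _))
        right_inv := fun x => Subtype.ext (Fib.ext (IsOpenImmersion.lift_fac _ _ _)) }
    let b := Equiv.ofBijective _ (hb Ω η)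
    refine (Nat.card_congr (e₁.trans (b.subtypeEquiv (q := fun z => ¬ z = 0) fun x => Iff.rfl))).trans ?_
    rcases finite_or_infinite (ToType ((stk (A := AddCommGrpCat.{u + 1}) η).obj F)) with hfin | hinf
    · classical
      letI := Fintype.ofFinite (ToType ((stk (A := AddCommGrpCat.{u + 1}) η).obj F))
      rw [Nat.card_eq_fintype_card, Nat.card_eq_fintype_card, Fintype.card_subtype_compl]
      simp
    · haveI : Infinite {z : ToType ((stk (A := AddCommGrpCat.{u + 1}) η).obj F) // ¬ z = 0} :=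
        (Set.finite_singleton (0 : ToType ((stk (A := AddCommGrpCat.{u + 1}) η).obj F))).infinite_compl.to_subtype
      simp
  · intro h0
    rw [germ_res_apply] at h0
    let y : Fib (ζ ≫ f) U := Fib.mk (ζ ≫ O.ι) (Category.assoc _ _ _)
    have e : x.map d = y.lift f ζ := by
      have hx : x.hom = ζ := (Category.comp_id _).symm.trans x.w
      apply Fib.ext
      rw [Fib.map_hom]
      show x.hom ≫ pullback.lift O.ι (𝟙 _) _ = pullback.lift (ζ ≫ O.ι) ζ _
      apply pullback.hom_ext <;> simp [hx]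
    rw [e] at h0
    have h1 : (stalkPull f ζ AddCommGrpCat.{u + 1}).hom.app F (germ (ζ ≫ f) F U y σ) = 0 :=
      ((ConcreteCategory.comp_apply _ _ _).symm.trans
        (ConcreteCategory.congr_hom (germ_stalkPull f ζ AddCommGrpCat.{u + 1} F U y) σ)).trans h0
    have h2 : germ (ζ ≫ f) F U y σ = 0 :=
      (ConcreteCategory.bijective_of_isIso ((stalkPull f ζ AddCommGrpCat.{u + 1}).hom.app F)).1
        (h1.trans (map_zero _).symm)
    have h3 := (mem_zeroLocus_iff F U σ y).2 h2
    change (ζ ≫ O.ι).base default ∈ Z at h3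
    rw [Scheme.Hom.comp_apply] at h3
    exact (ζ.base default).2 h3

end LcRepLib
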