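import Mathlib.CategoryTheory.Abelian.Basic
import Mathlib.Algebra.Homology.ShortComplex.ShortExact
import Mathlib.Algebra.Homology.ShortComplex.Ab
import Mathlib.Algebra.Category.Grp.Abelian
import Mathlib.GroupTheory.Coset.Card

/-!
# Filtrations with all graded pieces isomorphic to a given object
-/

set_option autoImplicit false
set_option linter.all false

universe w v u

open CategoryTheory CategoryTheory.Limits

noncomputable section

namespace LcRepLib

variable {C : Type u} [Category.{v} C] [Abelian C]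

/-- `H` has a filtration of length `n` with all graded pieces isomorphic to `K`. -/
def Filt (K : C) : ℕ → C → Prop
  | 0, H => IsZero H
  | n + 1, H => ∃ (H' : C) (j : H' ⟶ H) (_ : Mono j), Nonempty (cokernel j ≅ K) ∧ Filt K n H'

theorem Filt.of_iso {K : C} : ∀ {n : ℕ} {H H' : C}, Filt K n H → (H ≅ H') → Filt K n H'
  | 0, H, H', h, e => IsZero.of_iso h e.symm
  | n + 1, H, H', ⟨G, j, hj, ⟨c⟩, hG⟩, e => by
    haveI := hj
    exact ⟨G, j ≫ e.hom, inferInstance, ⟨cokernelCompIsIso j e.hom ≪≫ c⟩, hG⟩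

/-- Extensions of a filtered object by `K` are filtered. -/
theorem Filt.of_shortExact {K : C} : ∀ {n : ℕ} {S : ShortComplex C}, S.ShortExact → (S.X₁ ≅ K) → Filt K n S.X₃ →
    Filt K (n + 1) S.X₂
  | 0, S, hS, e, h => by
    haveI := hS.mono_f
    haveI : Epi S.f := hS.exact.epi_f (h.eq_of_tgt _ _)
    haveI : IsIso S.f := isIso_of_mono_of_epi _
    have h0 : (0 : S.X₃ ⟶ S.X₂) = 0 := rfl
    haveI : Mono (0 : S.X₃ ⟶ S.X₂) := ⟨fun a b _ => h.eq_of_tgt a b⟩
    exact ⟨S.X₃, 0, inferInstance, ⟨cokernelZeroIsoTarget ≪≫ (asIso S.f).symm ≪≫ e⟩, h⟩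
  | n + 1, S, hS, e, ⟨H', ι, hι, ⟨c⟩, hH'⟩ => by
    haveI := hι
    haveI := hS.mono_f
    haveI := hS.epi_g
    let j := pullback.fst S.g ι
    have hker : IsLimit (KernelFork.ofι j (show j ≫ S.g ≫ cokernel.π ι = 0 by
        rw [← Category.assoc, pullback.condition, Category.assoc, cokernel.condition, comp_zero])) := by
      refine KernelFork.IsLimit.ofι _ _ (fun k hk => pullback.lift k (Abelian.monoLift ι (k ≫ S.g) (by
        rw [Category.assoc]; exact hk)) (Abelian.monoLift_comp ι (k ≫ S.g) _).symm) (fun k hk => ?_)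
        (fun k hk m hm => ?_)
      · exact pullback.lift_fst _ _ _
      · apply pullback.hom_ext
        · exact hm.trans (pullback.lift_fst _ _ _).symm
        · rw [pullback.lift_snd, ← cancel_mono ι, Abelian.monoLift_comp, Category.assoc, ← pullback.condition,
            ← Category.assoc, hm]
    haveI : Epi (S.g ≫ cokernel.π ι) := epi_comp _ _
    have hcok := Abelian.epiIsCokernelOfKernel _ hker
    let e' : cokernel j ≅ cokernel ι := (cokernelIsCokernel j).coconePointUniqueUpToIso hcok
    let a : S.X₁ ⟶ pullback S.g ι := pullback.lift S.f 0 (by rw [zero_comp, S.zero])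
    have ha : a ≫ pullback.snd S.g ι = 0 := pullback.lift_snd _ _ _
    let S' := ShortComplex.mk a (pullback.snd S.g ι) ha
    haveI : Mono a := mono_of_mono_fac (show a ≫ j = S.f from pullback.lift_fst _ _ _)
    have hS' : S'.ShortExact := by
      haveI : Mono S'.f := inferInstanceAs (Mono a)
      haveI : Epi S'.g := inferInstanceAs (Epi (pullback.snd S.g ι))
      refine { exact := ShortComplex.exact_of_f_is_kernel _ (KernelFork.IsLimit.ofι _ _
        (fun k hk => hS.exact.lift (k ≫ j) (by rw [Category.assoc, pullback.condition, ← Category.assoc]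
                                               change (k ≫ S'.g) ≫ ι = 0
                                               rw [hk, zero_comp]))
        (fun k hk => ?_) (fun k hk m hm => ?_)) }
      · apply pullback.hom_ext
        · show (_ ≫ a) ≫ pullback.fst S.g ι = _
          rw [Category.assoc, pullback.lift_fst]
          exact hS.exact.lift_f _ _
        · show (_ ≫ a) ≫ pullback.snd S.g ι = _
          rw [Category.assoc, ha, comp_zero]
          exact hk.symm
      · rw [← cancel_mono S.f]
        refine Eq.trans ?_ (hS.exact.lift_f _ _).symm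
        rw [← hm]
        show _ = (m ≫ a) ≫ pullback.fst S.g ι
        rw [Category.assoc, pullback.lift_fst]
    exact ⟨pullback S.g ι, j, inferInstance, ⟨e' ≪≫ c⟩, Filt.of_shortExact (S := S') hS' e hH'⟩

/-- A filtration as a chain of monomorphisms. -/
theorem Filt.exists_chain {K : C} : ∀ {n : ℕ} {H : C}, Filt K n H →
    ∃ (G : ℕ → C) (φ : ∀ i, G i ⟶ G (i + 1)), IsZero (G 0) ∧ Nonempty (G n ≅ H) ∧
      ∀ i, i < n → Mono (φ i) ∧ Nonempty (cokernel (φ i) ≅ K)
  | 0, H, h => ⟨fun _ => H, fun _ => 𝟙 H, h, ⟨Iso.refl H⟩, fun i hi => absurd hi (Nat.not_lt_zero i)⟩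
  | n + 1, H, ⟨H', j, hj, ⟨c⟩, h⟩ => by
    obtain ⟨G, φ, h0, ⟨e⟩, hφ⟩ := Filt.exists_chain h
    haveI := hj
    let G' : ℕ → C := fun i => if i ≤ n then G i else H
    let φ' : ∀ i, G' i ⟶ G' (i + 1) := fun i =>
      if h1 : i + 1 ≤ n then eqToHom (if_pos (Nat.le_of_succ_le h1)) ≫ φ i ≫ eqToHom (if_pos h1).symm
      else if h2 : i = n then eqToHom (by subst h2; exact if_pos le_rfl) ≫ e.hom ≫ j ≫ eqToHom (if_neg h1).symm
      else eqToHom ((if_neg (by omega)).trans (if_neg h1).symm)
    refine ⟨G', φ', IsZero.of_iso h0 (eqToIso (if_pos (Nat.zero_le n))), ⟨eqToIso (if_neg (by omega))⟩, fun i hi => ?_⟩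
    by_cases h1 : i + 1 ≤ n
    · obtain ⟨hm, ⟨d⟩⟩ := hφ i h1
      haveI := hm
      have he : φ' i = eqToHom (if_pos (Nat.le_of_succ_le h1)) ≫ φ i ≫ eqToHom (if_pos h1).symm := dif_pos h1
      rw [he]
      exact ⟨inferInstance, ⟨cokernelEpiComp _ _ ≪≫ cokernelCompIsIso _ _ ≪≫ d⟩⟩
    · obtain rfl : i = n := by omega
      have he : φ' i = eqToHom (if_pos le_rfl) ≫ e.hom ≫ j ≫ eqToHom (if_neg h1).symm :=
        (dif_neg h1).trans (dif_pos rfl)
      rw [he]
      exact ⟨inferInstance, ⟨cokernelEpiComp _ _ ≪≫ cokernelEpiComp _ _ ≪≫ cokernelCompIsIso _ _ ≪≫ c⟩⟩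

/-- Orders in short exact sequences of abelian groups. -/
theorem card_shortExact {S : ShortComplex AddCommGrpCat.{w}} (hS : S.ShortExact) :
    Nat.card S.X₂ = Nat.card S.X₁ * Nat.card S.X₃ := by
  have hi : Function.Injective S.f := hS.ab_injective_f
  have hs : Function.Surjective S.g := hS.ab_surjective_g
  have hr : S.f.hom.range = S.g.hom.ker := hS.exact.ab_range_eq_ker
  rw [AddSubgroup.card_eq_card_quotient_mul_card_addSubgroup S.g.hom.ker,
    Nat.card_congr (QuotientAddGroup.quotientKerEquivOfSurjective S.g.hom hs).toEquiv,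
    show Nat.card S.g.hom.ker = Nat.card S.X₁ from
      (congrArg (fun T : AddSubgroup S.X₂ => Nat.card T) hr.symm).trans
        (Nat.card_congr (AddMonoidHom.ofInjective hi).toEquiv).symm]
  exact mul_comm _ _

end LcRepLib
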