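import Groth.Agent.LcRepLib.Punct
import Groth.Agent.LcRepLib.Filt
import Groth.Agent.CovDevLib.Base

/-!
# Filtrations of `ℓ`-torsion finite locally constant sheaves after a finite étale cover of degree prime to `ℓ`
-/

set_option autoImplicit false
set_option linter.all false
set_option backward.isDefEq.respectTransparency false
set_option backward.isDefEq.respectTransparency.types false
set_option synthInstance.maxHeartbeats 400000
set_option maxHeartbeats 1000000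

universe u

open CategoryTheory CategoryTheory.Limits AlgebraicGeometry Opposite TopologicalSpace
open Groth.Agent.EtShLib DescSecLib

noncomputable section

namespace LcRepLib

attribute [local instance] EtSliceLib.pullExact

theorem nsmul_stalk_eq_zero {S : Scheme.{u}} {n : ℕ} {F : EtCoh.Ab S} (h : EtCoh.KilledBy n F) {Ω : Type u}
    [Field Ω] [IsSepClosed Ω] (ξ : Spec (CommRingCat.of Ω) ⟶ S)
    (z : ToType ((stk (A := AddCommGrpCat.{u + 1}) ξ).obj F)) : n • z = 0 := by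
  obtain ⟨U, u, s, rfl⟩ := exists_germ ξ z
  rw [← map_nsmul]
  exact (congrArg (germ ξ F U u) (h U s)).trans (map_zero _)

theorem killedBy_of_stalks {S : Scheme.{u}} {n : ℕ} {F : EtCoh.Ab S}
    (h : ∀ (Ω : Type u) [Field Ω] [IsSepClosed Ω] (ξ : Spec (CommRingCat.of Ω) ⟶ S)
      (z : ToType ((stk (A := AddCommGrpCat.{u + 1}) ξ).obj F)), n • z = 0) : EtCoh.KilledBy n F := fun U s =>
  eq_of_germ F _ _ fun Ω _ _ ξ u => (map_nsmul _ _ _).trans ((h Ω ξ _).trans (map_zero _).symm)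

variable {T : Scheme.{u}} {ℓ : ℕ} [hℓ : Fact ℓ.Prime]

/-- A section killed by `ℓ`, as a map out of the constant sheaf. -/
theorem exists_ofSection {F : EtCoh.Ab T} (s : ToType (F.obj.obj (op (EtCoh.top T)))) (hs : ℓ • s = 0)
    (hne : ∀ (Ω : Type u) [Field Ω] [IsSepClosed Ω] (ζ : Spec (CommRingCat.of Ω) ⟶ T) (x : Fib ζ (EtCoh.top T)),
      germ ζ F (EtCoh.top T) x s ≠ 0) : ∃ φ : EtCoh.const T (ZMod ℓ) ⟶ F, Mono φ := by
  let M := AddCommGrpCat.of (ULift.{u + 1} (ZMod ℓ))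
  let e : ZMod ℓ →+ ToType (F.obj.obj (op (EtCoh.top T))) :=
    ZMod.lift ℓ ⟨zmultiplesHom _ s, by
      show (ℓ : ℤ) • s = 0
      rw [natCast_zsmul]
      exact hs⟩
  let η : M ⟶ F.obj.obj (op (EtCoh.top T)) := AddCommGrpCat.ofHom (e.comp AddEquiv.ulift.toAddMonoidHom)
  have hT : IsTerminal (EtCoh.top T) := MorphismProperty.Over.mkIdTerminal EtCoh.etaleMP T
  let α : (Functor.const (T.Etale)ᵒᵖ).obj M ⟶ F.obj :=
    { app := fun V => η ≫ F.obj.map (hT.from V.unop).op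
      naturality := fun V V' k => by
        rw [Category.assoc, ← Functor.map_comp, Functor.const_obj_map]
        refine (Category.id_comp _).trans (congrArg (fun z => η ≫ F.obj.map z) ?_)
        exact Quiver.Hom.unop_inj (hT.hom_ext _ _) }
  let φ : EtCoh.const T (ZMod ℓ) ⟶ F := ⟨sheafifyLift T.smallEtaleTopology α F.property⟩
  refine ⟨φ, (mono_iff_stalks (A := AddCommGrpCat.{u + 1}) φ).2 fun Ω _ _ ζ => ?_⟩
  rw [AddCommGrpCat.mono_iff_injective]
  let x : Fib ζ (EtCoh.top T) := Fib.mk ζ (Category.comp_id ζ)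
  haveI := isCst_cstUnit (X := T) (A := AddCommGrpCat.{u + 1}) M Ω ζ x
  let c := cstUnit T M ≫ germ ζ (EtCoh.const T (ZMod ℓ)) (EtCoh.top T) x
  have hc : Function.Bijective c := ConcreteCategory.bijective_of_isIso c
  have h1 : c ≫ (stk (A := AddCommGrpCat.{u + 1}) ζ).map φ = η ≫ germ ζ F (EtCoh.top T) x := by
    show (cstUnit T M ≫ germ ζ _ _ x) ≫ _ = _
    rw [Category.assoc, germ_natural, ← Category.assoc]
    refine congrArg (· ≫ germ ζ F (EtCoh.top T) x) ?_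
    refine (congrArg (fun z => z.app (op (EtCoh.top T))) (toSheafify_sheafifyLift T.smallEtaleTopology α F.property)).trans ?_
    show η ≫ F.obj.map (hT.from (EtCoh.top T)).op = η
    rw [hT.hom_ext (hT.from (EtCoh.top T)) (𝟙 _), op_id, CategoryTheory.Functor.map_id, Category.comp_id]
  have hinj : Function.Injective (η ≫ germ ζ F (EtCoh.top T) x) := by
    refine (injective_iff_map_eq_zero (η ≫ germ ζ F (EtCoh.top T) x).hom).2 fun m hm => ?_
    obtain ⟨k, hk⟩ := ZMod.intCast_surjective m.down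
    change germ ζ F (EtCoh.top T) x (e m.down) = 0 at hm
    rw [← hk, show e (k : ZMod ℓ) = k • s from (ZMod.lift_coe ℓ _ k).trans rfl, map_zsmul] at hm
    have ho : addOrderOf (germ ζ F (EtCoh.top T) x s) = ℓ :=
      addOrderOf_eq_prime ((map_nsmul _ _ _).symm.trans ((congrArg _ hs).trans (map_zero _))) (hne Ω ζ x)
    have hd : (ℓ : ℤ) ∣ k := by
      rw [← ho]
      exact addOrderOf_dvd_iff_zsmul_eq_zero.2 hm
    exact ULift.ext _ _ (hk.symm.trans ((ZMod.intCast_zmod_eq_zero_iff_dvd k ℓ).2 hd))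
  intro a b hab
  obtain ⟨a', rfl⟩ := hc.2 a
  obtain ⟨b', rfl⟩ := hc.2 b
  exact congrArg c (hinj ((ConcreteCategory.congr_hom h1 a').symm.trans ((hab : _).trans (ConcreteCategory.congr_hom h1 b'))))

theorem lc_const (T : Scheme.{u}) : LC (fun M : AddCommGrpCat.{u + 1} => Finite M) (EtCoh.const T (ZMod ℓ)) :=
  fun x => ⟨EtCoh.top T, x, _, cstUnit T _, rfl,
    (inferInstance : Finite (ULift.{u + 1} (ZMod ℓ))), isCst_cstUnit (X := T) (A := AddCommGrpCat.{u + 1}) _⟩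

theorem card_stalk_const (T : Scheme.{u}) {Ω : Type u} [Field Ω] [IsSepClosed Ω] (ζ : Spec (CommRingCat.of Ω) ⟶ T) :
    Nat.card ((stk (A := AddCommGrpCat.{u + 1}) ζ).obj (EtCoh.const T (ZMod ℓ))) = ℓ := by
  let x : Fib ζ (EtCoh.top T) := Fib.mk ζ (Category.comp_id ζ)
  haveI := isCst_cstUnit (X := T) (A := AddCommGrpCat.{u + 1}) (AddCommGrpCat.of (ULift.{u + 1} (ZMod ℓ))) Ω ζ x
  refine (Nat.card_congr (Equiv.ofBijective _ (ConcreteCategory.bijective_of_isIso
    (cstUnit T (AddCommGrpCat.of (ULift.{u + 1} (ZMod ℓ))) ≫ germ ζ (EtCoh.const T (ZMod ℓ)) (EtCoh.top T) x)))).symm.trans ?_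
  exact (Nat.card_congr Equiv.ulift).trans (Nat.card_zmod ℓ)

/-- The induction on the rank. -/
theorem exists_filt : ∀ (r : ℕ) {S : Scheme.{u}} (F : EtCoh.Ab S),
    LC (fun M : AddCommGrpCat.{u + 1} => Finite M) F → EtCoh.KilledBy ℓ F →
    (∀ (Ω : Type u) [Field Ω] [IsSepClosed Ω] (ξ : Spec (CommRingCat.of Ω) ⟶ S),
      Nat.card ((stk (A := AddCommGrpCat.{u + 1}) ξ).obj F) = ℓ ^ r) →
    ∃ (T : Scheme.{u}) (f : T ⟶ S) (_ : IsFinite f) (_ : AlgebraicGeometry.Etale f) (d : ℕ), ℓ.Coprime d ∧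
      (∀ (Ω : Type u) [Field Ω] [IsSepClosed Ω] (η : Spec (CommRingCat.of Ω) ⟶ S),
        Nat.card {t : Spec (CommRingCat.of Ω) ⟶ T // t ≫ f = η} = d) ∧
      Filt (EtCoh.const T (ZMod ℓ)) r ((EtCoh.pull f).obj F) := by
  intro r
  induction r with
  | zero =>
    intro S F hF hk hcard
    refine ⟨S, 𝟙 S, inferInstance, inferInstance, 1, Nat.coprime_one_right ℓ, fun Ω _ _ η => ?_, ?_⟩
    · rw [Nat.card_eq_one_iff_unique]
      exact ⟨⟨fun a b => Subtype.ext (((Category.comp_id _).symm.trans a.2).trans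
        ((Category.comp_id _).symm.trans b.2).symm)⟩, ⟨⟨η, Category.comp_id _⟩⟩⟩
    · refine (IsZero.iff_id_eq_zero _).2 ?_
      have h0 : 𝟙 F = 0 := Sheaf.hom_ext (NatTrans.ext (funext fun U => AddCommGrpCat.ext fun s => by
        refine eq_of_germ F s (0 : ToType (F.obj.obj (op U.unop))) fun Ω _ _ ξ u => ?_
        obtain ⟨h1, -⟩ := Nat.card_eq_one_iff_unique.1 ((hcard Ω ξ).trans (pow_zero ℓ))
        exact Subsingleton.elim _ _))
      haveI : (EtCoh.pull (𝟙 S)).Additive := { }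
      rw [← CategoryTheory.Functor.map_id, h0, Functor.map_zero]
  | succ r ih =>
    intro S F hF hk hcard
    obtain ⟨T₁, f₁, hf₁, hf₁', s, hcount, hne⟩ := exists_nonzero F hF
    haveI := hf₁
    haveI := hf₁'
    let F₁ := (EtCoh.pull f₁).obj F
    have hstk : ∀ (Ω : Type u) [Field Ω] [IsSepClosed Ω] (ζ : Spec (CommRingCat.of Ω) ⟶ T₁),
        Nonempty ((stk (A := AddCommGrpCat.{u + 1}) (ζ ≫ f₁)).obj F ≅ (stk (A := AddCommGrpCat.{u + 1}) ζ).obj F₁) :=
      fun Ω _ _ ζ => ⟨(stalkPull f₁ ζ AddCommGrpCat.{u + 1}).app F⟩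
    have hk₁ : EtCoh.KilledBy ℓ F₁ := killedBy_of_stalks fun Ω _ _ ζ z => by
      obtain ⟨e⟩ := hstk Ω ζ
      obtain ⟨w, rfl⟩ := (ConcreteCategory.bijective_of_isIso e.hom).2 z
      rw [← map_nsmul, nsmul_stalk_eq_zero hk, map_zero]
    obtain ⟨φ, hφ⟩ := exists_ofSection (ℓ := ℓ) s (hk₁ _ s) hne
    haveI := hφ
    have hS : (ShortComplex.mk φ (cokernel.π φ) (cokernel.condition φ)).ShortExact :=
      { exact := ShortComplex.exact_of_g_is_cokernel _ (cokernelIsCokernel _) }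
    have hF₁ : LC (fun M : AddCommGrpCat.{u + 1} => Finite M) F₁ := hF.pull
    have hC : LC (fun M : AddCommGrpCat.{u + 1} => Finite M) (cokernel φ) :=
      LC.cokernel φ (lc_const T₁) hF₁ (fun M hM => by haveI : Finite M := hM; exact fg_Ab)
        (fun M N h hM hN => by
          haveI : Finite N := hN
          exact Finite.of_surjective _ ((AddCommGrpCat.epi_iff_surjective (cokernel.π h)).1 inferInstance))
    have hkC : EtCoh.KilledBy ℓ (cokernel φ) := killedBy_of_stalks fun Ω _ _ ζ z => by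
      obtain ⟨w, rfl⟩ := (AddCommGrpCat.epi_iff_surjective ((stk (A := AddCommGrpCat.{u + 1}) ζ).map (cokernel.π φ))).1
        inferInstance z
      rw [← map_nsmul, nsmul_stalk_eq_zero hk₁, map_zero]
    have hcC : ∀ (Ω : Type u) [Field Ω] [IsSepClosed Ω] (ζ : Spec (CommRingCat.of Ω) ⟶ T₁),
        Nat.card ((stk (A := AddCommGrpCat.{u + 1}) ζ).obj (cokernel φ)) = ℓ ^ r := fun Ω _ _ ζ => by
      have h1 : Nat.card ((stk (A := AddCommGrpCat.{u + 1}) ζ).obj F₁) =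
          Nat.card ((stk (A := AddCommGrpCat.{u + 1}) ζ).obj (EtCoh.const T₁ (ZMod ℓ))) *
            Nat.card ((stk (A := AddCommGrpCat.{u + 1}) ζ).obj (cokernel φ)) :=
        card_shortExact (hS.map_of_exact (stk (A := AddCommGrpCat.{u + 1}) ζ))
      obtain ⟨e⟩ := hstk Ω ζ
      rw [card_stalk_const, ← Nat.card_congr (Equiv.ofBijective _ (ConcreteCategory.bijective_of_isIso e.hom)),
        hcard Ω (ζ ≫ f₁), pow_succ'] at h1
      exact (Nat.eq_of_mul_eq_mul_left hℓ.out.pos h1).symm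
    obtain ⟨T, f₂, hf₂, hf₂', d₂, hd₂, hcount₂, hfilt⟩ := ih (cokernel φ) hC hkC hcC
    haveI := hf₂
    haveI := hf₂'
    have hd₁ : ℓ.Coprime (ℓ ^ (r + 1) - 1) := by
      refine hℓ.out.coprime_iff_not_dvd.2 fun h => hℓ.out.one_lt.ne' ?_
      have h' : ℓ ∣ ℓ ^ (r + 1) - (ℓ ^ (r + 1) - 1) := Nat.dvd_sub (dvd_pow_self ℓ (Nat.succ_ne_zero r)) h
      rwa [Nat.sub_sub_self (Nat.one_le_pow _ _ hℓ.out.pos), Nat.dvd_one] at h'
    refine ⟨T, f₂ ≫ f₁, inferInstance, inferInstance, (ℓ ^ (r + 1) - 1) * d₂, hd₁.mul_right hd₂,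
      fun Ω _ _ η => ?_, ?_⟩
    · have h1 : Nat.card {t : Spec (CommRingCat.of Ω) ⟶ T₁ // t ≫ f₁ = η} = ℓ ^ (r + 1) - 1 := by
        rw [hcount Ω η, hcard Ω η]
      haveI : Finite {t : Spec (CommRingCat.of Ω) ⟶ T₁ // t ≫ f₁ = η} := Nat.finite_of_card_ne_zero (by
        rw [h1]
        exact Nat.sub_ne_zero_of_lt (Nat.one_lt_pow (Nat.succ_ne_zero r) hℓ.out.one_lt))
      have hd₂0 : d₂ ≠ 0 := fun h0 => hℓ.out.one_lt.ne' (by simpa [h0, Nat.coprime_zero_right] using hd₂)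
      haveI : ∀ t : {t : Spec (CommRingCat.of Ω) ⟶ T₁ // t ≫ f₁ = η},
          Finite {z : Spec (CommRingCat.of Ω) ⟶ T // z ≫ f₂ = t.1} := fun t =>
        Nat.finite_of_card_ne_zero (by rw [hcount₂ Ω t.1]; exact hd₂0)
      let e : {z : Spec (CommRingCat.of Ω) ⟶ T // z ≫ f₂ ≫ f₁ = η} ≃
          Σ t : {t : Spec (CommRingCat.of Ω) ⟶ T₁ // t ≫ f₁ = η},
            {z : Spec (CommRingCat.of Ω) ⟶ T // z ≫ f₂ = t.1} :=
        { toFun := fun z => ⟨⟨z.1 ≫ f₂, (Category.assoc _ _ _).trans z.2⟩, z.1, rfl⟩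
          invFun := fun p => ⟨p.2.1, by rw [← Category.assoc, p.2.2]; exact p.1.2⟩
          left_inv := fun z => rfl
          right_inv := fun p => by
            obtain ⟨⟨t, ht⟩, z, hz⟩ := p
            change z ≫ f₂ = t at hz
            subst hz
            rfl }
      letI := Fintype.ofFinite {t : Spec (CommRingCat.of Ω) ⟶ T₁ // t ≫ f₁ = η}
      rw [Nat.card_congr e, Nat.card_sigma, Finset.sum_congr rfl fun t _ => hcount₂ Ω t.1, Finset.sum_const,
        Finset.card_univ, ← Nat.card_eq_fintype_card, h1, smul_eq_mul]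
    · refine Filt.of_iso (Filt.of_shortExact (EtRpushStalkLib.shortExact_pull f₂ hS) (EtCore.pullConst f₂ (ZMod ℓ)) hfilt) ?_
      exact asIso ((etSys.c f₂ f₁ (f₂ ≫ f₁) rfl).app F)

/-- On a connected scheme the geometric stalks all have the same cardinality, a power of `ℓ`. -/
theorem exists_rank {S : Scheme.{u}} [ConnectedSpace S] (F : EtCoh.Ab S)
    (hF : LC (fun M : AddCommGrpCat.{u + 1} => Finite M) F) (hk : EtCoh.KilledBy ℓ F) :
    ∃ r, ∀ (Ω : Type u) [Field Ω] [IsSepClosed Ω] (ξ : Spec (CommRingCat.of Ω) ⟶ S),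
      Nat.card ((stk (A := AddCommGrpCat.{u + 1}) ξ).obj F) = ℓ ^ r := by
  choose U y M η hy hM hη using hF
  have hval : ∀ (i : S) (Ω : Type u) [Field Ω] [IsSepClosed Ω] (ξ : Spec (CommRingCat.of Ω) ⟶ S),
      ξ.base default ∈ Set.range (U i).hom.base →
      Nat.card ((stk (A := AddCommGrpCat.{u + 1}) ξ).obj F) = Nat.card (M i) := by
    rintro i Ω _ _ ξ ⟨q, hq⟩
    obtain ⟨a, -⟩ := exists_fib ξ (U i) q hq
    haveI := hη i Ω ξ a
    exact (Nat.card_congr (Equiv.ofBijective _ (ConcreteCategory.bijective_of_isIso (η i ≫ germ ξ F (U i) a)))).symm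
  let c : S → ℕ := fun i => Nat.card (M i)
  have hc : IsLocallyConstant c := by
    refine (IsLocallyConstant.iff_exists_open c).2 fun i => ?_
    haveI := etale_hom (U i)
    refine ⟨Set.range (U i).hom.base, (U i).hom.isOpenMap.isOpen_range, ⟨y i, hy i⟩, fun j hj => ?_⟩
    obtain ⟨Ω, _, _, ξ, hξ⟩ := exists_geometric_pt j
    exact (hval j Ω ξ ⟨y j, (hy j).trans hξ.symm⟩).symm.trans (hval i Ω ξ (by rw [hξ]; exact hj))
  obtain ⟨i₀⟩ := (inferInstance : Nonempty S)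
  haveI : Finite (M i₀) := hM i₀
  have hp : IsPGroup ℓ (Multiplicative (M i₀)) := fun g => ⟨1, by
    obtain ⟨Ω, _, _, ξ, hξ⟩ := exists_geometric_pt i₀
    obtain ⟨a, -⟩ := exists_fib ξ (U i₀) (y i₀) ((hy i₀).trans hξ.symm)
    haveI := hη i₀ Ω ξ a
    rw [pow_one]
    refine Multiplicative.toAdd.injective ((ConcreteCategory.bijective_of_isIso (η i₀ ≫ germ ξ F (U i₀) a)).1 ?_)
    rw [toAdd_pow, toAdd_one, map_nsmul, map_zero, nsmul_stalk_eq_zero hk]⟩
  obtain ⟨r, hr⟩ := IsPGroup.iff_card.1 hp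
  refine ⟨r, fun Ω _ _ ξ => ?_⟩
  rw [hval (ξ.base default) Ω ξ ⟨_, hy _⟩]
  exact (hc.apply_eq_of_preconnectedSpace (ξ.base default) i₀).trans
    ((Nat.card_congr Multiplicative.ofAdd).trans hr)

end LcRepLib
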