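import Groth.Agent.LcRepLib.Punct
import Groth.Agent.EtRpushStalkLib.Iso
import Groth.Agent.LocAcycStalkLib.Unit
import Mathlib.Algebra.Homology.DerivedCategory.Ext.Map

/-!
# A class in `H¹` of a finite locally constant sheaf dies on a finite étale surjective cover

The class is the coboundary of a section `q` of `I/F`; the sheaf of lifts of `q` to `I` is, locally, a translate of
`F`, so it is enumerated by a finite étale scheme carrying a lift of `q`.
-/

set_option autoImplicit false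
set_option linter.all false
set_option backward.isDefEq.respectTransparency false
set_option backward.isDefEq.respectTransparency.types false
set_option synthInstance.maxHeartbeats 400000
set_option maxHeartbeats 1000000

universe u

open CategoryTheory CategoryTheory.Limits CategoryTheory.Abelian AlgebraicGeometry Opposite TopologicalSpace
open Groth.Agent.EtShLib DescSecLib

noncomputable section

namespace LcRepLib

variable {Y : Scheme.{u}}

/-- The map to the final object. -/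
abbrev toTop (V : Y.Etale) : V ⟶ EtCoh.top Y := MorphismProperty.Over.homMk V.hom (Category.comp_id _)

/-- The point of the final object. -/
abbrev topFib {Ω : Type u} [Field Ω] [IsSepClosed Ω] (ξ : Spec (CommRingCat.of Ω) ⟶ Y) : Fib ξ (EtCoh.top Y) :=
  Fib.mk ξ (Category.comp_id _)

theorem germ_toTop {Ω : Type u} [Field Ω] [IsSepClosed Ω] (ξ : Spec (CommRingCat.of Ω) ⟶ Y) (F : EtCoh.Ab Y)
    {V : Y.Etale} (v : Fib ξ V) (q : ToType (F.obj.obj (op (EtCoh.top Y)))) :
    germ ξ F V v (F.obj.map (toTop V).op q) = germ ξ F (EtCoh.top Y) (topFib ξ) q :=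
  (germ_res_apply ξ F (toTop V) v q).trans
    (congrArg (fun z => germ ξ F (EtCoh.top Y) z q) (Fib.ext ((Fib.map_hom _ _).trans v.w)))

/-- Lifts of a section along an epimorphism with finite locally constant kernel are enumerated by a finite étale
scheme. -/
theorem exists_finite_lift (T : ShortComplex (EtCoh.Ab Y)) (hT : T.ShortExact)
    (hF : LC (fun M : AddCommGrpCat.{u + 1} => Finite M) T.X₁) (q : ToType (T.X₃.obj.obj (op (EtCoh.top Y)))) :
    ∃ (U : Y.Etale) (σ : ToType (T.X₂.obj.obj (op U))), IsFinite U.hom ∧ Surjective U.hom ∧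
      T.g.hom.app (op U) σ = T.X₃.obj.map (toTop U).op q := by
  haveI := hT.mono_f
  haveI := hT.epi_g
  have hloc : ∀ x : Y, ∃ (V : Y.Etale) (y : V.left) (M : AddCommGrpCat.{u + 1}) (η : M ⟶ T.X₁.obj.obj (op V))
      (x₀ : ToType (T.X₂.obj.obj (op V))), V.hom.base y = x ∧ Finite M ∧ IsCst T.X₁ V η ∧
        T.g.hom.app (op V) x₀ = T.X₃.obj.map (toTop V).op q := by
    intro x
    obtain ⟨U, y, M, η, hy, hM, hη⟩ := hF x
    obtain ⟨Ω, _, _, ξ, u, hu⟩ := exists_geometric y
    obtain ⟨p, hp⟩ := (AddCommGrpCat.epi_iff_surjective _).1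
      ((epi_iff_stalks (A := AddCommGrpCat.{u + 1}) T.g).1 inferInstance Ω ξ)
      (germ ξ T.X₃ (EtCoh.top Y) (topFib ξ) q)
    obtain ⟨V, g, v, s, hv, rfl⟩ := exists_germ_below ξ p U u
    have he : germ ξ T.X₃ V v (T.g.hom.app (op V) s) = germ ξ T.X₃ V v (T.X₃.obj.map (toTop V).op q) := by
      rw [← germ_natural_apply, germ_toTop]
      exact hp
    obtain ⟨W, k, w, hw, he'⟩ := (germ_eq_iff ξ V v _ _).1 he
    refine ⟨W, w.pt, M, _, T.X₂.obj.map k.op s, ?_, hM, (hη.map g).map k, ?_⟩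
    · exact (congrArg (fun t : Spec (CommRingCat.of Ω) ⟶ Y => t.base default) w.w).trans
        ((congrArg (fun t : Spec (CommRingCat.of Ω) ⟶ Y => t.base default) u.w).symm.trans
          ((congrArg (fun z => U.hom.base z) hu).trans hy))
    · rw [NatTrans.naturality_apply, he']
      rw [← ConcreteCategory.comp_apply, ← Functor.map_comp, ← op_comp,
        show k ≫ toTop V = toTop W from MorphismProperty.Over.Hom.ext (MorphismProperty.Over.w k)]
  choose V y M η x₀ hy hM hη hx₀ using hloc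
  have he : ∀ i, ∃ n, Nonempty (M i ≃ Fin n) := fun i =>
    haveI : Finite (M i) := hM i
    Finite.exists_equiv_fin _
  choose n en using he
  let e : ∀ i, M i ≃ Fin (n i) := fun i => (en i).some
  let t : ∀ i, Fin (n i) → ToType (T.X₂.obj.obj (op (V i))) := fun i k =>
    x₀ i + T.f.hom.app (op (V i)) (η i ((e i).symm k))
  let R : ∀ (Ω : Type u) [Field Ω] [IsSepClosed Ω] (ξ : Spec (CommRingCat.of Ω) ⟶ Y),
      Set (ToType ((stk (A := Type (u + 1)) ξ).obj (setSh T.X₂))) := fun Ω _ _ ξ =>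
    {z | ∃ (W : Y.Etale) (w : Fib ξ W) (s : ToType (T.X₂.obj.obj (op W))),
      germ ξ (setSh T.X₂) W w (toSet T.X₂ s) = z ∧
        (stk (A := AddCommGrpCat.{u + 1}) ξ).map T.g (germ ξ T.X₂ W w s) = germ ξ T.X₃ (EtCoh.top Y) (topFib ξ) q}
  have hgf : ∀ (Ω : Type u) [Field Ω] [IsSepClosed Ω] (ξ : Spec (CommRingCat.of Ω) ⟶ Y) z,
      (stk (A := AddCommGrpCat.{u + 1}) ξ).map T.g ((stk ξ).map T.f z) = 0 := fun Ω _ _ ξ z => by
    rw [← ConcreteCategory.comp_apply, ← Functor.map_comp, T.zero, Functor.map_zero]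
    rfl
  have hs : ∀ i (Ω : Type u) [Field Ω] [IsSepClosed Ω] (ξ : Spec (CommRingCat.of Ω) ⟶ Y) (a : Fib ξ (V i)),
      Function.Injective (fun k => germ ξ (setSh T.X₂) (V i) a (toSet T.X₂ (t i k))) ∧
        Set.range (fun k => germ ξ (setSh T.X₂) (V i) a (toSet T.X₂ (t i k))) = R Ω ξ := by
    intro i Ω _ _ ξ a
    haveI := hη i Ω ξ a
    have hb := ConcreteCategory.bijective_of_isIso (η i ≫ germ ξ T.X₁ (V i) a)
    have hinj : Function.Injective ((stk (A := AddCommGrpCat.{u + 1}) ξ).map T.f) :=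
      (AddCommGrpCat.mono_iff_injective _).1
        ((mono_iff_stalks (A := AddCommGrpCat.{u + 1}) T.f).1 inferInstance Ω ξ)
    have hval : ∀ k, germ ξ T.X₂ (V i) a (t i k) = germ ξ T.X₂ (V i) a (x₀ i) +
        (stk ξ).map T.f ((η i ≫ germ ξ T.X₁ (V i) a) ((e i).symm k)) := fun k => by
      rw [ConcreteCategory.comp_apply, germ_natural_apply]
      exact map_add _ _ _
    have hx : (stk (A := AddCommGrpCat.{u + 1}) ξ).map T.g (germ ξ T.X₂ (V i) a (x₀ i)) =
        germ ξ T.X₃ (EtCoh.top Y) (topFib ξ) q := by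
      rw [germ_natural_apply, hx₀ i, germ_toTop]
    refine ⟨fun k k' h => ?_, Set.ext fun z => ⟨?_, ?_⟩⟩
    · have h1 := (germ_set_eq_iff T.X₂ ξ a a _ _).1 h
      rw [hval, hval] at h1
      exact (e i).symm.injective (hb.1 (hinj (add_left_cancel h1)))
    · rintro ⟨k, rfl⟩
      refine ⟨V i, a, t i k, rfl, ?_⟩
      rw [hval, map_add, hgf, add_zero, hx]
    · rintro ⟨W, w, s, rfl, hsq⟩
      obtain ⟨p, hp⟩ := (ShortComplex.ab_exact_iff (T.map (stk (A := AddCommGrpCat.{u + 1}) ξ))).1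
        ((exact_iff_stalks (A := AddCommGrpCat.{u + 1}) T).1 hT.exact Ω ξ)
        (germ ξ T.X₂ W w s - germ ξ T.X₂ (V i) a (x₀ i)) (by
          show (stk (A := AddCommGrpCat.{u + 1}) ξ).map T.g _ = 0
          rw [map_sub, hsq, hx, sub_self])
      obtain ⟨m, hm⟩ := hb.2 p
      refine ⟨e i m, (germ_set_eq_iff T.X₂ ξ a w _ _).2 ?_⟩
      rw [hval, Equiv.symm_apply_apply, hm]
      change _ + (T.map (stk (A := AddCommGrpCat.{u + 1}) ξ)).f p = _
      rw [hp, add_sub_cancel]
  obtain ⟨U, σ, hU, hr⟩ := exists_finite_rep_of_enum_range (F := setSh T.X₂) (U := V)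
    (fun x => ⟨x, y x, hy x⟩) n (fun i k => toSet T.X₂ (t i k)) R hs
  refine ⟨U, σ, hU, ⟨fun x => ?_⟩, eq_of_germ T.X₃ _ _ fun Ω _ _ ξ u => ?_⟩
  · obtain ⟨Ω, _, _, ξ, hξ⟩ := exists_geometric_pt x
    obtain ⟨a, -⟩ := exists_fib ξ (V x) (y x) ((hy x).trans hξ.symm)
    have h1 : germ ξ (setSh T.X₂) (V x) a (toSet T.X₂ (t x (e x 0))) ∈ R Ω ξ := by
      rw [← (hs x Ω ξ a).2]
      exact ⟨_, rfl⟩
    rw [← (hr Ω ξ).2] at h1
    obtain ⟨u, -⟩ := h1
    exact ⟨u.hom.base default, (congrArg (fun t : Spec (CommRingCat.of Ω) ⟶ Y => t.base default) u.w).trans hξ⟩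
  · have h1 : germ ξ (setSh T.X₂) U u σ ∈ R Ω ξ := by
      rw [← (hr Ω ξ).2]
      exact ⟨u, rfl⟩
    obtain ⟨W, w, s, h2, h3⟩ := h1
    rw [germ_toTop, ← h3, (germ_set_eq_iff T.X₂ ξ w u s σ).1 h2, germ_natural_apply]

theorem toFib_comp_bc_map {W : Y.Etale} :
    EtRpushStalkLib.toFib W (𝟙 W.left) W.hom (Category.id_comp _) ≫ (EtCoh.bc W.hom).map (toTop W) =
      (EtCore.bcTopIso W.hom).inv := by
  rw [← cancel_mono (EtCore.bcTopIso W.hom).hom, Iso.inv_hom_id]
  exact (EtCore.topIsTerminal W.left).hom_ext _ _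

/-- A class in `H¹` of a finite locally constant sheaf is killed by a finite étale surjective morphism. -/
theorem exists_finite_etale_killing (F : EtCoh.Ab Y) (hF : LC (fun M : AddCommGrpCat.{u + 1} => Finite M) F)
    (ζ : EtCoh.H Y F 1) :
    ∃ (Y' : Scheme.{u}) (g : Y' ⟶ Y), IsFinite g ∧ AlgebraicGeometry.Etale g ∧ Surjective g ∧
      ∀ [PreservesFiniteLimits (EtCoh.pull g)], EtCore.Hpull g F 1 ζ = 0 := by
  let T : ShortComplex (EtCoh.Ab Y) :=
    ShortComplex.mk (Injective.ι F) (cokernel.π (Injective.ι F)) (cokernel.condition _)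
  have hT : T.ShortExact :=
    { exact := ShortComplex.exact_of_g_is_cokernel _ (cokernelIsCokernel (Injective.ι F))
      mono_f := inferInstanceAs (Mono (Injective.ι F))
      epi_g := inferInstanceAs (Epi (cokernel.π (Injective.ι F))) }
  haveI : Injective T.X₂ := inferInstanceAs (Injective (Injective.under F))
  obtain ⟨e, rfl⟩ := Ext.covariant_sequence_exact₁ _ hT ζ (Ext.eq_zero_of_injective _) rfl
  obtain ⟨U, σ, hfin, hsurj, hσ⟩ := exists_finite_lift T hT hF (EtContLib.sec e)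
  refine ⟨U.left, U.hom, hfin, etale_hom U, hsurj, fun {_} => ?_⟩
  haveI := EtCore.pull_preservesFiniteColimits U.hom
  let σ' : ToType (((EtCoh.pull U.hom).obj T.X₂).obj.obj (op (EtCoh.top U.left))) :=
    ((EtCoh.pull U.hom).obj T.X₂).obj.map (EtRpushStalkLib.toFib U (𝟙 _) U.hom (Category.id_comp _)).op
      (((EtCoh.pullPushAdj U.hom).unit.app T.X₂).hom.app (op U) σ)
  obtain ⟨e', he'⟩ := EtContLib.sec_surjective σ'
  have h0 : EtCore.Hpull U.hom T.X₃ 0 e = e'.comp (Ext.mk₀ ((EtCoh.pull U.hom).map T.g)) (add_zero 0) := by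
    apply EtContLib.sec_injective
    rw [LocAcycStalkLib.sec_Hpull, EtRpushStalkLib.sec_comp_mk₀, he', ← toFib_comp_bc_map, op_comp, Functor.map_comp,
      ConcreteCategory.comp_apply]
    refine Eq.trans (congrArg (((EtCoh.pull U.hom).obj T.X₃).obj.map _) ?_)
      (NatTrans.naturality_apply ((EtCoh.pull U.hom).map T.g).hom
        (EtRpushStalkLib.toFib U (𝟙 _) U.hom (Category.id_comp _)).op
        (((EtCoh.pullPushAdj U.hom).unit.app T.X₂).hom.app (op U) σ)).symm
    refine (NatTrans.naturality_apply ((EtCoh.pullPushAdj U.hom).unit.app T.X₃).hom (toTop U).op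
      (EtContLib.sec e)).symm.trans ?_
    refine (congrArg (((EtCoh.pullPushAdj U.hom).unit.app T.X₃).hom.app (op U)) hσ.symm).trans ?_
    exact ConcreteCategory.congr_hom (congrArg (fun z : T.X₂ ⟶ _ => z.hom.app (op U))
      ((EtCoh.pullPushAdj U.hom).unit.naturality T.g)) σ
  have h1 : EtCore.Hpull U.hom T.X₁ 1 (e.comp hT.extClass rfl) =
      (EtCore.Hpull U.hom T.X₃ 0 e).comp (hT.map_of_exact (EtCoh.pull U.hom)).extClass rfl := by
    show (Ext.mk₀ _).comp (Ext.mapExactFunctor (EtCoh.pull U.hom) _) (zero_add 1) = _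
    rw [Ext.mapExactFunctor_comp, Ext.mapExactFunctor_extClass]
    exact (Ext.comp_assoc _ _ _ (zero_add 0) rfl rfl).symm
  refine h1.trans ?_
  rw [h0, Ext.comp_assoc_of_second_deg_zero]
  exact (congrArg (fun z => Ext.comp e' z rfl) (hT.map_of_exact (EtCoh.pull U.hom)).comp_extClass).trans
    (Ext.comp_zero _ _ _ _ _)

end LcRepLib
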