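import Groth.Agent.DescLib.Main
import Groth.Agent.EtShLib.Stalk
import Groth.Agent.AlgSpLib.AffineFpqc
import Groth.Prelude.Def_EtOpen
import Groth.Prelude.Def_SGA4b

/-!
# Representing a sheaf of sets split over an étale covering by a finite étale scheme

`A → S` is an étale surjection, `π : W → A` is finite and `σ` is a section of `F` over `W` such that at every
geometric point, over every point of `A`, the germs of `σ` at the points of `W` above it are distinct and enumerate
all germs of `σ` (for instance the whole stalk of `F`). Then the descent datum given by equality of germs yields a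
finite étale `S`-scheme with a universal section.
-/

set_option autoImplicit false
set_option linter.all false
set_option backward.isDefEq.respectTransparency false
set_option backward.isDefEq.respectTransparency.types false
set_option synthInstance.maxHeartbeats 400000
set_option maxHeartbeats 1000000

universe u

open CategoryTheory CategoryTheory.Limits AlgebraicGeometry Opposite TopologicalSpace
open Groth.Agent.EtShLib

noncomputable section

namespace LcRepLib

theorem etale_hom {S : Scheme.{u}} (U : S.Etale) : AlgebraicGeometry.Etale U.hom := U.prop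

theorem isIso_of_diag {X Y : Scheme.{u}} (f : X ⟶ Y) [IsOpenImmersion f] [Surjective f] : IsIso f :=
  isIso_of_isOpenImmersion_of_opensRange_eq_top f (Opens.ext f.surjective.range_eq)

theorem exists_lift_geometric {X Y : Scheme.{u}} (f : X ⟶ Y) [AlgebraicGeometry.Etale f] {Ω : Type u} [Field Ω]
    [IsSepClosed Ω] (t : Spec (CommRingCat.of Ω) ⟶ Y) (x : X) (hx : f.base x = t.base default) :
    ∃ l : Spec (CommRingCat.of Ω) ⟶ X, l ≫ f = t ∧ l.base default = x := by
  obtain ⟨l, h1, h2⟩ := Scheme.exists_fac_of_etale_of_isSepClosed f t x hx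
  exact ⟨l, h1, h2⟩

/-- Morphisms to an unramified separated scheme agreeing at all geometric points agree. -/
theorem eq_of_geometric {X Y Z : Scheme.{u}} (g : Y ⟶ Z) [AlgebraicGeometry.Etale g] (a b : X ⟶ Y)
    (h : a ≫ g = b ≫ g)
    (H : ∀ (Ω : Type u) [Field Ω] [IsSepClosed Ω] (t : Spec (CommRingCat.of Ω) ⟶ X), t ≫ a = t ≫ b) : a = b := by
  let e := pullback.fst (pullback.lift a b h) (pullback.diagonal g)
  haveI : IsOpenImmersion (pullback.diagonal g) := inferInstance
  haveI : IsOpenImmersion e := inferInstance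
  haveI : Surjective e := ⟨fun x => by
    obtain ⟨Ω, _, _, t, ht⟩ := exists_geometric_pt x
    refine ⟨(pullback.lift t (t ≫ a) ?_ : Spec (CommRingCat.of Ω) ⟶ pullback (pullback.lift a b h)
      (pullback.diagonal g)).base default, ?_⟩
    · apply pullback.hom_ext
      · simp
      · simpa using (H Ω t).symm
    · rw [← Scheme.Hom.comp_apply, pullback.lift_fst, ht]⟩
  haveI := isIso_of_diag e
  have h1 := pullback.condition (f := pullback.lift a b h) (g := pullback.diagonal g)
  have h2 : pullback.lift a b h = inv e ≫ pullback.snd _ _ ≫ pullback.diagonal g := by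
    rw [IsIso.eq_inv_comp]
    exact h1
  have ha := congrArg (· ≫ pullback.fst g g) h2
  have hb := congrArg (· ≫ pullback.snd g g) h2
  simp only [pullback.lift_fst, pullback.lift_snd, Category.assoc, pullback.diagonal_fst, pullback.diagonal_snd,
    Category.comp_id] at ha hb
  exact ha.trans hb.symm

variable {S : Scheme.{u}} {F : EtDesc.Sh S}

/-- The points of the square of `W` near which the two restrictions of `σ` agree. -/
def agree (W : S.Etale) (σ : ToType (F.obj.obj (op W))) : (pullback W.hom W.hom).Opens :=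
  haveI := etale_hom W
  ⟨⋃ d : {d : Σ (V : S.Etale), (V ⟶ W) × (V ⟶ W) // F.obj.map d.2.1.op σ = F.obj.map d.2.2.op σ},
      Set.range (pullback.lift d.1.2.1.left d.1.2.2.left
        ((MorphismProperty.Over.w d.1.2.1).trans (MorphismProperty.Over.w d.1.2.2).symm) :
          d.1.1.left ⟶ pullback W.hom W.hom).base,
    isOpen_iUnion fun d => by
      let P : S.Etale := Scheme.Etale.mk (pullback.fst W.hom W.hom ≫ W.hom)
      let g : d.1.1 ⟶ P := MorphismProperty.Over.homMk (pullback.lift d.1.2.1.left d.1.2.2.left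
        ((MorphismProperty.Over.w d.1.2.1).trans (MorphismProperty.Over.w d.1.2.2).symm))
        ((pullback.lift_fst_assoc _ _ _ _).trans (MorphismProperty.Over.w d.1.2.1))
      haveI := etale_hom d.1.1
      haveI : AlgebraicGeometry.Etale (pullback.fst W.hom W.hom ≫ W.hom) := inferInstance
      haveI : AlgebraicGeometry.Etale (g.left ≫ pullback.fst W.hom W.hom ≫ W.hom) := by
        rw [show g.left ≫ pullback.fst W.hom W.hom ≫ W.hom = d.1.1.hom from MorphismProperty.Over.w g]
        infer_instance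
      haveI : AlgebraicGeometry.Etale g.left := AlgebraicGeometry.Etale.of_comp g.left (pullback.fst W.hom W.hom ≫ W.hom)
      exact g.left.isOpenMap.isOpen_range⟩

theorem agree_iff (W : S.Etale) (σ : ToType (F.obj.obj (op W))) {Ω : Type u} [Field Ω] [IsSepClosed Ω]
    {ξ : Spec (CommRingCat.of Ω) ⟶ S} (v w : Fib ξ W) :
    (pullback.lift v.hom w.hom (v.w.trans w.w.symm) : Spec (CommRingCat.of Ω) ⟶ pullback W.hom W.hom).base default ∈
      agree W σ ↔ germ ξ F W v σ = germ ξ F W w σ := by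
  haveI := etale_hom W
  let P : S.Etale := Scheme.Etale.mk (pullback.fst W.hom W.hom ≫ W.hom)
  let p₁ : P ⟶ W := MorphismProperty.Over.homMk (pullback.fst W.hom W.hom) rfl
  let p₂ : P ⟶ W := MorphismProperty.Over.homMk (pullback.snd W.hom W.hom) pullback.condition.symm
  let z : Fib ξ P := Fib.mk (pullback.lift v.hom w.hom (v.w.trans w.w.symm))
    ((pullback.lift_fst_assoc _ _ _ _).trans v.w)
  have hz₁ : z.map p₁ = v := Fib.ext (pullback.lift_fst _ _ _)
  have hz₂ : z.map p₂ = w := Fib.ext (pullback.lift_snd _ _ _)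
  constructor
  · intro h
    obtain ⟨⟨⟨V, g₁, g₂⟩, hg⟩, y, hy⟩ := Set.mem_iUnion.1 h
    let g : V ⟶ P := MorphismProperty.Over.homMk (pullback.lift g₁.left g₂.left
      ((MorphismProperty.Over.w g₁).trans (MorphismProperty.Over.w g₂).symm))
      ((pullback.lift_fst_assoc _ _ _ _).trans (MorphismProperty.Over.w g₁))
    haveI := etale_hom V
    haveI : AlgebraicGeometry.Etale (g.left ≫ P.hom) := by
      rw [show g.left ≫ P.hom = V.hom from MorphismProperty.Over.w g]
      infer_instance
    haveI : AlgebraicGeometry.Etale (pullback.fst W.hom W.hom ≫ W.hom) := inferInstance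
    haveI : AlgebraicGeometry.Etale g.left := AlgebraicGeometry.Etale.of_comp g.left P.hom
    obtain ⟨l, hl, -⟩ := exists_lift_geometric g.left z.hom y hy
    let y' : Fib ξ V := Fib.mk l (by
      rw [← MorphismProperty.Over.w g, ← Category.assoc, hl]
      exact z.w)
    have e₁ : y'.map g₁ = v := by
      refine Eq.trans (Fib.ext ?_) hz₁
      show l ≫ g₁.left = z.hom ≫ pullback.fst W.hom W.hom
      rw [← hl, Category.assoc]
      exact congrArg (l ≫ ·) (pullback.lift_fst _ _ _).symm
    have e₂ : y'.map g₂ = w := by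
      refine Eq.trans (Fib.ext ?_) hz₂
      show l ≫ g₂.left = z.hom ≫ pullback.snd W.hom W.hom
      rw [← hl, Category.assoc]
      exact congrArg (l ≫ ·) (pullback.lift_snd _ _ _).symm
    rw [← e₁, ← e₂, ← germ_res_apply ξ F g₁ y' σ, ← germ_res_apply ξ F g₂ y' σ]
    exact congrArg (germ ξ F V y') hg
  · intro h
    rw [← hz₁, ← hz₂, ← germ_res_apply, ← germ_res_apply] at h
    obtain ⟨V, g, y, hy, e⟩ := (germ_eq_iff ξ P z _ _).1 h
    refine Set.mem_iUnion.2 ⟨⟨⟨V, g ≫ p₁, g ≫ p₂⟩, ?_⟩, y.pt, ?_⟩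
    · simpa only [op_comp, Functor.map_comp, ConcreteCategory.comp_apply] using e
    · show (pullback.lift (g ≫ p₁).left (g ≫ p₂).left _ : _ ⟶ pullback W.hom W.hom).base y.pt =
        z.hom.base default
      have e1 : (pullback.lift (g ≫ p₁).left (g ≫ p₂).left
          ((MorphismProperty.Over.w (g ≫ p₁)).trans (MorphismProperty.Over.w (g ≫ p₂)).symm) :
          _ ⟶ pullback W.hom W.hom) = g.left := by
        apply pullback.hom_ext
        · exact pullback.lift_fst _ _ _
        · exact pullback.lift_snd _ _ _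
      rw [e1, ← hy]
      rfl

/-- Two points of `W` with the same image in `S` are related. -/
def Agr (W : S.Etale) (σ : ToType (F.obj.obj (op W))) {T : Scheme.{u}} (v w : T ⟶ W.left)
    (h : v ≫ W.hom = w ≫ W.hom) : Prop :=
  Set.range (pullback.lift v w h : T ⟶ pullback W.hom W.hom).base ⊆ agree W σ

variable (W : S.Etale) (σ : ToType (F.obj.obj (op W)))

theorem agr_iff {T : Scheme.{u}} (v w : T ⟶ W.left) (h : v ≫ W.hom = w ≫ W.hom) :
    Agr W σ v w h ↔ ∀ (Ω : Type u) [Field Ω] [IsSepClosed Ω] (t : Spec (CommRingCat.of Ω) ⟶ T)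
      (ξ : Spec (CommRingCat.of Ω) ⟶ S) (a b : Fib ξ W), a.hom = t ≫ v → b.hom = t ≫ w →
      germ ξ F W a σ = germ ξ F W b σ := by
  constructor
  · intro H Ω _ _ t ξ a b ha hb
    refine (agree_iff W σ a b).1 (H ⟨t.base default, ?_⟩)
    rw [← Scheme.Hom.comp_apply]
    refine congrArg (fun z : _ ⟶ pullback W.hom W.hom => z.base default) ?_
    apply pullback.hom_ext <;> simp [ha, hb]
  · rintro H _ ⟨x, rfl⟩
    obtain ⟨Ω, _, _, t, ht⟩ := exists_geometric_pt x
    let a : Fib (t ≫ v ≫ W.hom) W := Fib.mk (t ≫ v) (Category.assoc _ _ _)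
    let b : Fib (t ≫ v ≫ W.hom) W := Fib.mk (t ≫ w) (by rw [Category.assoc, h])
    have h1 := (agree_iff W σ a b).2 (H Ω t _ a b rfl rfl)
    rw [← ht, ← Scheme.Hom.comp_apply]
    refine (congrArg (fun z : _ ⟶ pullback W.hom W.hom => z.base default ∈ agree W σ) ?_).mp h1
    apply pullback.hom_ext <;> simp [a, b, Fib.mk]

variable {A : S.Etale} (π : W ⟶ A)
  (hB : ∀ (Ω : Type u) [Field Ω] [IsSepClosed Ω] (ξ : Spec (CommRingCat.of Ω) ⟶ S) (a : Fib ξ A),
    Function.Injective (fun w : {w : Fib ξ W // w.map π = a} => germ ξ F W w.1 σ) ∧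
      ∀ v : Fib ξ W, ∃ w : {w : Fib ξ W // w.map π = a}, germ ξ F W w.1 σ = germ ξ F W v σ)

/-- The graph of the relation, mapped to `W ×_S A`. -/
def relMap : (agree W σ).toScheme ⟶ pullback W.hom A.hom :=
  pullback.lift ((agree W σ).ι ≫ pullback.fst W.hom W.hom) ((agree W σ).ι ≫ pullback.snd W.hom W.hom ≫ π.left) (by
    simp only [Category.assoc]
    rw [MorphismProperty.Over.w π, pullback.condition])

include hB in
theorem isIso_relMap : IsIso (relMap W σ π) := by
  haveI := etale_hom W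
  haveI := etale_hom A
  haveI : AlgebraicGeometry.Etale (pullback.fst W.hom A.hom ≫ W.hom) := inferInstance
  haveI : AlgebraicGeometry.Etale (relMap W σ π ≫ pullback.fst W.hom A.hom ≫ W.hom) := by
    rw [relMap, pullback.lift_fst_assoc]
    infer_instance
  haveI : AlgebraicGeometry.Etale (relMap W σ π) :=
    AlgebraicGeometry.Etale.of_comp _ (pullback.fst W.hom A.hom ≫ W.hom)
  have hinj : ∀ (Ω : Type u) [Field Ω] [IsSepClosed Ω] (t₁ t₂ : Spec (CommRingCat.of Ω) ⟶ (agree W σ).toScheme),
      t₁ ≫ relMap W σ π = t₂ ≫ relMap W σ π → t₁ = t₂ := by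
    intro Ω _ _ t₁ t₂ e
    have ef := congrArg (· ≫ pullback.fst W.hom A.hom) e
    have es := congrArg (· ≫ pullback.snd W.hom A.hom) e
    simp only [relMap, Category.assoc, pullback.lift_fst, pullback.lift_snd] at ef es
    rw [← cancel_mono (agree W σ).ι]
    let c₁ : Spec (CommRingCat.of Ω) ⟶ pullback W.hom W.hom := t₁ ≫ (agree W σ).ι
    let c₂ : Spec (CommRingCat.of Ω) ⟶ pullback W.hom W.hom := t₂ ≫ (agree W σ).ι
    let ξ := (c₁ ≫ pullback.fst W.hom W.hom) ≫ W.hom
    let v : Fib ξ W := Fib.mk (c₁ ≫ pullback.fst W.hom W.hom) rfl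
    let w₁ : Fib ξ W := Fib.mk (c₁ ≫ pullback.snd W.hom W.hom) (by
      simp only [ξ, Category.assoc, pullback.condition])
    let w₂ : Fib ξ W := Fib.mk (c₂ ≫ pullback.snd W.hom W.hom) (by
      simp only [ξ, c₁, c₂, Category.assoc, ← pullback.condition]
      rw [← Category.assoc (agree W σ).ι, ← Category.assoc t₁, ← Category.assoc t₂]
      exact congrArg (· ≫ W.hom) (by simpa using ef.symm))
    have g₁ : germ ξ F W v σ = germ ξ F W w₁ σ := (agree_iff W σ v w₁).1 (by
      rw [show pullback.lift v.hom w₁.hom (v.w.trans w₁.w.symm) = c₁ by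
        apply pullback.hom_ext <;> simp [v, w₁, Fib.mk]]
      exact (t₁.base default).2)
    have g₂ : germ ξ F W v σ = germ ξ F W w₂ σ := (agree_iff W σ v w₂).1 (by
      rw [show pullback.lift v.hom w₂.hom (v.w.trans w₂.w.symm) = c₂ by
        apply pullback.hom_ext
        · simpa [v, w₂, Fib.mk, c₁, c₂] using ef
        · simp [v, w₂, Fib.mk]]
      exact (t₂.base default).2)
    have := (hB Ω ξ (w₁.map π)).1 (a₁ := ⟨w₁, rfl⟩) (a₂ := ⟨w₂, Fib.ext (by
      show (c₂ ≫ pullback.snd W.hom W.hom) ≫ π.left = (c₁ ≫ pullback.snd W.hom W.hom) ≫ π.left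
      simpa [c₁, c₂] using es.symm)⟩) (g₁.symm.trans g₂)
    apply pullback.hom_ext
    · simpa using ef
    · exact congrArg (fun z : {w : Fib ξ W // w.map π = w₁.map π} => z.1.hom) this
  haveI : Surjective (relMap W σ π) := ⟨fun y => by
    obtain ⟨Ω, _, _, t, ht⟩ := exists_geometric_pt y
    let v : Fib ((t ≫ pullback.fst W.hom A.hom) ≫ W.hom) W := Fib.mk (t ≫ pullback.fst W.hom A.hom) rfl
    let a : Fib ((t ≫ pullback.fst W.hom A.hom) ≫ W.hom) A := Fib.mk (t ≫ pullback.snd W.hom A.hom) (by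
      simp only [Category.assoc, pullback.condition])
    obtain ⟨⟨w, hw⟩, he⟩ := (hB Ω _ a).2 v
    have hz := (agree_iff W σ v w).2 he.symm
    refine ⟨(IsOpenImmersion.lift (agree W σ).ι (pullback.lift v.hom w.hom (v.w.trans w.w.symm)) (by
      rintro _ ⟨x, rfl⟩
      rw [Scheme.Opens.range_ι, Subsingleton.elim x default]
      exact hz)).base default, ?_⟩
    rw [← Scheme.Hom.comp_apply, ← ht]
    refine congrArg (fun z : _ ⟶ pullback W.hom A.hom => z.base default) ?_
    apply pullback.hom_ext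
    · simp [relMap, v, Fib.mk]
    · simp only [relMap, Category.assoc, pullback.lift_snd, IsOpenImmersion.lift_fac_assoc, pullback.lift_snd_assoc]
      exact congrArg (fun z : Fib _ A => z.hom) hw⟩
  haveI : Mono (relMap W σ π) := ⟨fun {T} a b e => eq_of_geometric (relMap W σ π) a b e fun Ω _ _ t =>
    hinj Ω _ _ (by rw [Category.assoc, Category.assoc, e])⟩
  haveI : IsOpenImmersion (relMap W σ π) := IsOpenImmersion.of_flat_of_mono _
  exact isIso_of_diag _

include hB in
theorem existsUnique_partner {T : Scheme.{u}} (v : T ⟶ W.left) (x : T ⟶ A.left) (h : v ≫ W.hom = x ≫ A.hom) :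
    ∃! w : {w : T ⟶ W.left // w ≫ π.left = x},
      Agr W σ v w.1 (h.trans ((congrArg (· ≫ A.hom) w.2).symm.trans ((Category.assoc _ _ _).trans (congrArg (w.1 ≫ ·) (MorphismProperty.Over.w π))))) := by
  haveI := isIso_relMap W σ π hB
  let r := pullback.lift v x h ≫ inv (relMap W σ π)
  have hr : r ≫ relMap W σ π = pullback.lift v x h := by simp [r]
  have hr₁ : r ≫ (agree W σ).ι ≫ pullback.fst W.hom W.hom = v := by
    have := congrArg (· ≫ pullback.fst W.hom A.hom) hr
    simpa [relMap] using this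
  have hr₂ : (r ≫ (agree W σ).ι ≫ pullback.snd W.hom W.hom) ≫ π.left = x := by
    have := congrArg (· ≫ pullback.snd W.hom A.hom) hr
    simpa [relMap] using this
  refine ⟨⟨r ≫ (agree W σ).ι ≫ pullback.snd W.hom W.hom, hr₂⟩, ?_, fun w' hw' => Subtype.ext ?_⟩
  · rintro _ ⟨t, rfl⟩
    have e : (pullback.lift v (r ≫ (agree W σ).ι ≫ pullback.snd W.hom W.hom) (h.trans (by
        rw [← hr₂, Category.assoc, MorphismProperty.Over.w π])) : T ⟶ pullback W.hom W.hom) =
          r ≫ (agree W σ).ι := by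
      apply pullback.hom_ext
      · simpa using hr₁.symm
      · simp
    rw [e, Scheme.Hom.comp_apply]
    exact (r.base t).2
  · let l := IsOpenImmersion.lift (agree W σ).ι (pullback.lift v w'.1 (h.trans ((congrArg (· ≫ A.hom) w'.2).symm.trans ((Category.assoc _ _ _).trans
      (congrArg (w'.1 ≫ ·) (MorphismProperty.Over.w π)))))) (by rw [Scheme.Opens.range_ι]; exact hw')
    have hl : l = r := by
      rw [← cancel_mono (relMap W σ π), hr]
      apply pullback.hom_ext
      · simp [l, relMap]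
      · simp [l, relMap, w'.2]
    show w'.1 = r ≫ (agree W σ).ι ≫ pullback.snd W.hom W.hom
    rw [← hl]
    simp [l]

/-- The related point above a given point of `A`. -/
def partner {T : Scheme.{u}} (x₀ x₁ : T ⟶ A.left) (h : x₀ ≫ A.hom = x₁ ≫ A.hom)
    (v : Desc.Lifts (Over.mk π.left) x₀) : Desc.Lifts (Over.mk π.left) x₁ :=
  ⟨(existsUnique_partner W σ π hB v.1 x₁ (by
      rw [← MorphismProperty.Over.w π, ← Category.assoc]; exact (congrArg (· ≫ A.hom) v.2).trans h)).choose.1,
    (existsUnique_partner W σ π hB v.1 x₁ (by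
      rw [← MorphismProperty.Over.w π, ← Category.assoc]; exact (congrArg (· ≫ A.hom) v.2).trans h)).choose.2⟩

theorem lifts_w {T : Scheme.{u}} {x₀ x₁ : T ⟶ A.left} (h : x₀ ≫ A.hom = x₁ ≫ A.hom)
    (v : Desc.Lifts (Over.mk π.left) x₀) (w : Desc.Lifts (Over.mk π.left) x₁) : v.1 ≫ W.hom = w.1 ≫ W.hom := by
  rw [← MorphismProperty.Over.w π, ← Category.assoc, ← Category.assoc]
  exact (congrArg (· ≫ A.hom) v.2).trans (h.trans (congrArg (· ≫ A.hom) w.2).symm)

theorem partner_spec {T : Scheme.{u}} (x₀ x₁ : T ⟶ A.left) (h : x₀ ≫ A.hom = x₁ ≫ A.hom)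
    (v : Desc.Lifts (Over.mk π.left) x₀) :
    Agr W σ v.1 (partner W σ π hB x₀ x₁ h v).1 (lifts_w W π h v _) :=
  (existsUnique_partner W σ π hB v.1 x₁ (by
    rw [← MorphismProperty.Over.w π, ← Category.assoc]; exact (congrArg (· ≫ A.hom) v.2).trans h)).choose_spec.1

theorem partner_unique {T : Scheme.{u}} (x₀ x₁ : T ⟶ A.left) (h : x₀ ≫ A.hom = x₁ ≫ A.hom)
    (v : Desc.Lifts (Over.mk π.left) x₀) (w : Desc.Lifts (Over.mk π.left) x₁)
    (hw : Agr W σ v.1 w.1 (lifts_w W π h v w)) : partner W σ π hB x₀ x₁ h v = w := by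
  obtain ⟨w₀, -, hu⟩ := existsUnique_partner W σ π hB v.1 x₁ (by
    rw [← MorphismProperty.Over.w π, ← Category.assoc]; exact (congrArg (· ≫ A.hom) v.2).trans h)
  exact (hu ⟨(partner W σ π hB x₀ x₁ h v).1, (partner W σ π hB x₀ x₁ h v).2⟩
    (partner_spec W σ π hB x₀ x₁ h v)).trans (hu ⟨w.1, w.2⟩ hw).symm |> fun e =>
      Subtype.ext (congrArg Subtype.val e)

theorem agr_refl {T : Scheme.{u}} (v : T ⟶ W.left) : Agr W σ v v rfl :=
  (agr_iff W σ v v rfl).2 fun Ω _ _ t ξ a b ha hb => by rw [Fib.ext (ha.trans hb.symm)]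

theorem agr_symm {T : Scheme.{u}} {v w : T ⟶ W.left} {h : v ≫ W.hom = w ≫ W.hom} (H : Agr W σ v w h) :
    Agr W σ w v h.symm :=
  (agr_iff W σ w v h.symm).2 fun Ω _ _ t ξ a b ha hb => ((agr_iff W σ v w h).1 H Ω t ξ b a hb ha).symm

theorem agr_trans {T : Scheme.{u}} {v w z : T ⟶ W.left} {h : v ≫ W.hom = w ≫ W.hom}
    {h' : w ≫ W.hom = z ≫ W.hom} (H : Agr W σ v w h) (H' : Agr W σ w z h') : Agr W σ v z (h.trans h') :=
  (agr_iff W σ v z _).2 fun Ω _ _ t ξ a c ha hc => by
    let b : Fib ξ W := Fib.mk (t ≫ w) (by rw [Category.assoc, ← h, ← Category.assoc, ← ha]; exact a.w)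
    exact ((agr_iff W σ v w h).1 H Ω t ξ a b ha rfl).trans ((agr_iff W σ w z h').1 H' Ω t ξ b c rfl hc)

/-- The descent datum. -/
def datum : Desc.SchDD A.hom where
  obj := Over.mk π.left
  φ T x₀ x₁ h :=
    { toFun := partner W σ π hB x₀ x₁ h
      invFun := partner W σ π hB x₁ x₀ h.symm
      left_inv := fun v => partner_unique W σ π hB _ _ _ _ _
        (agr_symm W σ (partner_spec W σ π hB x₀ x₁ h v))
      right_inv := fun v => partner_unique W σ π hB _ _ _ _ _
        (agr_symm W σ (partner_spec W σ π hB x₁ x₀ h.symm v)) }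
  φ_natural T T' g x₀ x₁ h h' v v' hv' :=
    (congrArg Subtype.val (partner_unique W σ π hB (g ≫ x₀) (g ≫ x₁) h' v'
      ⟨g ≫ (partner W σ π hB x₀ x₁ h v).1, by rw [Category.assoc, (partner W σ π hB x₀ x₁ h v).2]⟩
      (by
        rintro _ ⟨t, rfl⟩
        refine partner_spec W σ π hB x₀ x₁ h v ⟨g.base t, ?_⟩
        rw [← Scheme.Hom.comp_apply]
        refine congrArg (fun z : _ ⟶ pullback W.hom W.hom => z.base t) ?_
        apply pullback.hom_ext <;> simp [hv'])) :)
  φ_self T x v := partner_unique W σ π hB x x rfl v v (agr_refl W σ v.1)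
  φ_comp T x₀ x₁ x₂ h₀₁ h₁₂ v := (partner_unique W σ π hB x₀ x₂ (h₀₁.trans h₁₂) v _
    (agr_trans W σ (partner_spec W σ π hB x₀ x₁ h₀₁ v) (partner_spec W σ π hB x₁ x₂ h₁₂ _))).symm

end LcRepLib
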