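import Groth.Agent.LcRepLib.Rep
import Groth.Agent.EtShLib.ConstSheaf
import Groth.Agent.DescLib.Family
import Groth.Agent.CycBivLib.Disjoint
import Groth.Prelude.Def_CohProp
import Mathlib.Logic.Small.Basic

/-!
# Finite locally constant sheaves of sets are represented by finite étale schemes
-/

set_option autoImplicit false
set_option linter.all false
set_option backward.isDefEq.respectTransparency false
set_option backward.isDefEq.respectTransparency.types false
set_option synthInstance.maxHeartbeats 400000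
set_option maxHeartbeats 1000000

universe u

open CategoryTheory CategoryTheory.Limits AlgebraicGeometry Opposite TopologicalSpace
open Groth.Agent.EtShLib

noncomputable section

namespace LcRepLib

variable {S : Scheme.{u}} {F : EtDesc.Sh S}

/-- Finitely many sections over `U` enumerating every stalk over `U`. -/
theorem exists_enum {U : S.Etale} {M : Type (u + 1)} [Finite M]
    (e : F.over U ≅ (CohProp.constSh S M).over U) :
    ∃ (n : ℕ) (s : Fin n → ToType (F.obj.obj (op U))),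
      ∀ (Ω : Type u) [Field Ω] [IsSepClosed Ω] (ξ : Spec (CommRingCat.of Ω) ⟶ S) (x : Fib ξ U),
        Function.Bijective fun k => germ ξ F U x (s k) := by
  let g : U ⟶ EtCoh.top S := MorphismProperty.Over.homMk U.hom (Category.comp_id _)
  obtain ⟨η, hη⟩ := exists_isCst_of_iso (A := Type (u + 1))
    (e ≪≫ ((isCst_cstUnit (X := S) (A := Type (u + 1)) M).map g).iso)
  obtain ⟨n, ⟨en⟩⟩ := Finite.exists_equiv_fin M
  refine ⟨n, fun k => η (en.symm k), fun Ω _ _ ξ x => ?_⟩
  haveI := hη Ω ξ x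
  exact (ConcreteCategory.bijective_of_isIso (η ≫ germ ξ F U x)).comp en.symm.bijective

/-- Local enumerations of a family of subsets of the stalks are glued to a finite étale scheme enumerating them. -/
theorem exists_finite_rep_of_enum_range {ι : Type u} {U : ι → S.Etale} (hU : EtCoh.Covers U) (n : ι → ℕ)
    (s : ∀ i, Fin (n i) → ToType (F.obj.obj (op (U i))))
    (R : ∀ (Ω : Type u) [Field Ω] [IsSepClosed Ω] (ξ : Spec (CommRingCat.of Ω) ⟶ S),
      Set (ToType ((stk (A := Type (u + 1)) ξ).obj F)))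
    (hs : ∀ i (Ω : Type u) [Field Ω] [IsSepClosed Ω] (ξ : Spec (CommRingCat.of Ω) ⟶ S) (x : Fib ξ (U i)),
      Function.Injective (fun k => germ ξ F (U i) x (s i k)) ∧
        Set.range (fun k => germ ξ F (U i) x (s i k)) = R Ω ξ) :
    ∃ (U : S.Etale) (σU : ToType (F.obj.obj (op U))), IsFinite U.hom ∧
      ∀ (Ω : Type u) [Field Ω] [IsSepClosed Ω] (ξ : Spec (CommRingCat.of Ω) ⟶ S),
        Function.Injective (fun x : Fib ξ U => germ ξ F U x σU) ∧
          Set.range (fun x : Fib ξ U => germ ξ F U x σU) = R Ω ξ := by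
  let K : ι → Type u := fun i => ULift.{u} (Fin (n i))
  let Wi : ι → Scheme.{u} := fun i => ∐ fun _ : K i => (U i).left
  haveI : ∀ i, AlgebraicGeometry.Etale (U i).hom := fun i => etale_hom _
  let aA : (∐ fun i => (U i).left) ⟶ S := Limits.Sigma.desc fun i => (U i).hom
  let fold : ∀ i, Wi i ⟶ (U i).left := fun i => Limits.Sigma.desc fun _ => 𝟙 _
  let πl : (∐ Wi) ⟶ ∐ fun i => (U i).left := Limits.Sigma.map fold
  haveI hAe : AlgebraicGeometry.Etale aA :=
    IsZariskiLocalAtSource.of_openCover (sigmaOpenCover fun i => (U i).left) fun i => by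
      change AlgebraicGeometry.Etale (Sigma.ι (fun i => (U i).left) i ≫ aA)
      rw [Sigma.ι_desc]; infer_instance
  have hπe : ∀ i, AlgebraicGeometry.Etale (fold i) := fun i =>
    IsZariskiLocalAtSource.of_openCover (sigmaOpenCover fun _ : K i => (U i).left) fun k => by
      change AlgebraicGeometry.Etale (Sigma.ι (fun _ : K i => (U i).left) k ≫ fold i)
      rw [Sigma.ι_desc]; infer_instance
  haveI : AlgebraicGeometry.Etale πl := DescLib.property_sigmaMap @AlgebraicGeometry.Etale fold hπe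
  haveI : IsFinite πl := DescLib.property_sigmaMap @IsFinite fold fun i =>
    CycBivLib.isFinite_sigmaDesc (fun _ : K i => 𝟙 (U i).left) fun y => ⟨⊤, trivial, Set.toFinite _⟩
  let A : S.Etale := Scheme.Etale.mk aA
  let W : S.Etale := Scheme.Etale.mk (πl ≫ aA)
  let π : W ⟶ A := MorphismProperty.Over.homMk πl rfl
  haveI : IsFinite π.left := ‹IsFinite πl›
  haveI : Surjective A.hom := ⟨fun x => by
    obtain ⟨i, y, hy⟩ := hU x
    refine ⟨(Sigma.ι (fun i => (U i).left) i).base y, ?_⟩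
    refine (Scheme.Hom.comp_apply _ _ _).symm.trans ?_
    exact (congrArg (fun z : _ ⟶ S => z.base y) (Sigma.ι_desc (fun i => (U i).hom) i)).trans hy⟩
  let iA : ∀ i, U i ⟶ A := fun i => MorphismProperty.Over.homMk (Sigma.ι (fun i => (U i).left) i) (Sigma.ι_desc _ _)
  let iW : ∀ d : Σ i, K i, U d.1 ⟶ W := fun d => MorphismProperty.Over.homMk
    (Sigma.ι (fun _ : K d.1 => (U d.1).left) d.2 ≫ Sigma.ι Wi d.1) (by
      show (_ ≫ _) ≫ πl ≫ aA = _
      simp [πl, aA, fold])
  have hπ : ∀ d, iW d ≫ π = iA d.1 := fun d => MorphismProperty.Over.Hom.ext (by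
    show (_ ≫ _) ≫ πl = _
    simp [πl, fold, iA])
  have hjoint : ∀ w : W.left, ∃ (d : Σ i, K i) (y : (U d.1).left), (iW d).left.base y = w := fun w => by
    obtain ⟨i, z, rfl⟩ := DescLib.exists_sigma_mem (Z := Wi) w
    obtain ⟨k, y, rfl⟩ := DescLib.exists_sigma_mem z
    exact ⟨⟨i, k⟩, y, rfl⟩
  have hidx : ∀ {T : Scheme.{u}} [Nonempty T] (d d' : Σ i, K i) (a : T ⟶ (U d.1).left) (b : T ⟶ (U d'.1).left),
      a ≫ (iW d).left = b ≫ (iW d').left → d = d' ∧ HEq a b := by
    intro T _ d d' a b e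
    obtain ⟨i, k⟩ := d
    obtain ⟨i', k'⟩ := d'
    have e1 : (a ≫ Sigma.ι (fun _ : K i => (U i).left) k) ≫ Sigma.ι Wi i =
        (b ≫ Sigma.ι (fun _ : K i' => (U i').left) k') ≫ Sigma.ι Wi i' := by
      simpa [iW] using e
    obtain rfl := DescLib.idx_eq _ _ e1
    obtain rfl := DescLib.idx_eq a b ((cancel_mono (Sigma.ι Wi i)).1 e1)
    exact ⟨rfl, heq_of_eq ((cancel_mono (Sigma.ι (fun _ : K i => (U i).left) k)).1 ((cancel_mono (Sigma.ι Wi i)).1 e1))⟩
  have hsh : Presieve.IsSheafFor F.obj (Presieve.ofArrows (fun d : Σ i, K i => U d.1) iW) := by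
    refine (Presieve.isSheafFor_iff_generate _).2
      (((isSheaf_iff_isSheaf_of_type _ _).1 F.property) _ ?_)
    rw [← Sieve.ofArrows]
    exact (Scheme.ofArrows_mem_smallEtaleTopology_iff iW).2 (Set.eq_univ_of_forall fun w => by
      obtain ⟨d, y, hy⟩ := hjoint w
      exact Set.mem_iUnion.2 ⟨d, y, hy⟩)
  obtain ⟨σ, hσ, -⟩ := (Presieve.isSheafFor_arrows_iff _ _).1 hsh (fun d => s d.1 d.2.down) (fun d d' Z gi gj e => by
    refine eq_of_germ F _ _ fun Ω _ _ ξ z => ?_
    rw [germ_res_apply, germ_res_apply]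
    obtain ⟨rfl, h2⟩ := hidx d d' (z.hom ≫ gi.left) (z.hom ≫ gj.left)
      (by
        simp only [Category.assoc]
        exact congrArg (fun q : Z ⟶ W => z.hom ≫ q.left) e)
    rw [show z.map gi = z.map gj from Fib.ext (eq_of_heq h2)])
  have hlift : ∀ {Ω : Type u} [Field Ω] [IsSepClosed Ω] {ξ : Spec (CommRingCat.of Ω) ⟶ S} (v : Fib ξ W),
      ∃ (d : Σ i, K i) (y : Fib ξ (U d.1)), y.map (iW d) = v := fun {Ω} _ _ {ξ} v => by
    obtain ⟨d, y', hy'⟩ := hjoint v.pt
    haveI := etale_hom (U d.1)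
    haveI : IsOpenImmersion (iW d).left :=
      inferInstanceAs (IsOpenImmersion (Sigma.ι (fun _ : K d.1 => (U d.1).left) d.2 ≫ Sigma.ι Wi d.1))
    have hr' : Set.range v.hom.base ⊆ Set.range (iW d).left.base := by
      rintro _ ⟨z, rfl⟩
      rw [Subsingleton.elim z default]
      exact ⟨y', hy'⟩
    let l' := IsOpenImmersion.lift (iW d).left v.hom hr'
    have hl' : l' ≫ (iW d).left = v.hom := IsOpenImmersion.lift_fac _ _ _
    exact ⟨d, Fib.mk l' (by
      rw [← MorphismProperty.Over.w (iW d), ← Category.assoc, hl']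
      exact v.w), Fib.ext hl'⟩
  have hvalW : ∀ {Ω : Type u} [Field Ω] [IsSepClosed Ω] {ξ : Spec (CommRingCat.of Ω) ⟶ S} (d : Σ i, K i)
      (y : Fib ξ (U d.1)), germ ξ F W (y.map (iW d)) σ = germ ξ F (U d.1) y (s d.1 d.2.down) := fun d y => by
    rw [← germ_res_apply, hσ d]
  have hW : ∀ (Ω : Type u) [Field Ω] [IsSepClosed Ω] (ξ : Spec (CommRingCat.of Ω) ⟶ S),
      Set.range (fun w : Fib ξ W => germ ξ F W w σ) = R Ω ξ := fun Ω _ _ ξ => Set.ext fun z => by
    constructor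
    · rintro ⟨w, rfl⟩
      obtain ⟨d, y, rfl⟩ := hlift w
      show germ ξ F W (y.map (iW d)) σ ∈ R Ω ξ
      rw [hvalW d y, ← (hs d.1 Ω ξ y).2]
      exact ⟨d.2.down, rfl⟩
    · intro hz
      obtain ⟨i, y, hy⟩ := hU (ξ.base default)
      obtain ⟨x, -⟩ := exists_fib ξ (U i) y hy
      rw [← (hs i Ω ξ x).2] at hz
      obtain ⟨k, rfl⟩ := hz
      exact ⟨x.map (iW ⟨i, ⟨k⟩⟩), hvalW ⟨i, ⟨k⟩⟩ x⟩
  have hB : ∀ (Ω : Type u) [Field Ω] [IsSepClosed Ω] (ξ : Spec (CommRingCat.of Ω) ⟶ S) (a : Fib ξ A),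
      Function.Injective (fun w : {w : Fib ξ W // w.map π = a} => germ ξ F W w.1 σ) ∧
        ∀ v : Fib ξ W, ∃ w : {w : Fib ξ W // w.map π = a}, germ ξ F W w.1 σ = germ ξ F W v σ := by
    intro Ω _ _ ξ a
    obtain ⟨i, y, hy⟩ := DescLib.exists_sigma_mem (Z := fun i => (U i).left) a.pt
    have hr : Set.range a.hom.base ⊆ Set.range (Sigma.ι (fun i => (U i).left) i).base := by
      rintro _ ⟨x, rfl⟩
      rw [Subsingleton.elim x default]
      exact ⟨y, hy⟩
    let l := IsOpenImmersion.lift (Sigma.ι (fun i => (U i).left) i) a.hom hr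
    have hl : l ≫ Sigma.ι (fun i => (U i).left) i = a.hom := IsOpenImmersion.lift_fac _ _ _
    let x : Fib ξ (U i) := Fib.mk l (by
      rw [← MorphismProperty.Over.w (iA i), ← Category.assoc]
      exact (congrArg (· ≫ aA) hl).trans a.w)
    have hxa : x.map (iA i) = a := Fib.ext hl
    have hval : ∀ k : K i, germ ξ F W (x.map (iW ⟨i, k⟩)) σ = germ ξ F (U i) x (s i k.down) := fun k => by
      rw [← germ_res_apply, hσ ⟨i, k⟩]
    let Φ : K i → {w : Fib ξ W // w.map π = a} := fun k => ⟨x.map (iW ⟨i, k⟩), by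
      refine Eq.trans ?_ hxa
      rw [← hπ ⟨i, k⟩]
      exact Fib.ext (Category.assoc _ _ _)⟩
    have hΦ : Function.Surjective Φ := fun ⟨w, hw⟩ => by
      obtain ⟨⟨i', k'⟩, y', hy'⟩ := hjoint w.pt
      haveI := etale_hom (U i')
      haveI : IsOpenImmersion (iW ⟨i', k'⟩).left :=
        inferInstanceAs (IsOpenImmersion (Sigma.ι (fun _ : K i' => (U i').left) k' ≫ Sigma.ι Wi i'))
      have hr' : Set.range w.hom.base ⊆ Set.range (iW ⟨i', k'⟩).left.base := by
        rintro _ ⟨z, rfl⟩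
        rw [Subsingleton.elim z default]
        exact ⟨y', hy'⟩
      let l' := IsOpenImmersion.lift (iW ⟨i', k'⟩).left w.hom hr'
      have hl' : l' ≫ (iW ⟨i', k'⟩).left = w.hom := IsOpenImmersion.lift_fac _ _ _
      have e : l' ≫ Sigma.ι (fun i => (U i).left) i' = l ≫ Sigma.ι (fun i => (U i).left) i := by
        refine Eq.trans ?_ hl.symm
        have e1 : l' ≫ (iA i').left = w.hom ≫ π.left := by
          rw [← hl', Category.assoc, ← hπ ⟨i', k'⟩]
          rfl
        exact e1.trans (congrArg (fun z : Fib ξ A => z.hom) hw)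
      obtain rfl := DescLib.idx_eq (Z := fun i => (U i).left) l' l e
      have e2 := (cancel_mono (Sigma.ι (fun i => (U i).left) i')).1 e
      exact ⟨k', Subtype.ext (Fib.ext ((congrArg (· ≫ (iW ⟨i', k'⟩).left) e2.symm).trans hl'))⟩
    refine ⟨fun w w' e => ?_, fun v => ?_⟩
    · obtain ⟨k, rfl⟩ := hΦ w
      obtain ⟨k', rfl⟩ := hΦ w'
      rw [ULift.ext k k' ((hs i Ω ξ x).1 (((hval k).symm.trans e).trans (hval k')))]
    · have hv : germ ξ F W v σ ∈ R Ω ξ := by
        rw [← hW Ω ξ]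
        exact ⟨v, rfl⟩
      rw [← (hs i Ω ξ x).2] at hv
      obtain ⟨k, hk⟩ := hv
      exact ⟨Φ ⟨k⟩, (hval ⟨k⟩).trans hk⟩
  obtain ⟨V, σV, hV, hr⟩ := exists_universal W σ π hB
  exact ⟨V, σV, hV, fun Ω _ _ ξ => ⟨(hr Ω ξ).1, (hr Ω ξ).2.trans (hW Ω ξ)⟩⟩

theorem exists_finite_rep_of_enum {ι : Type u} {U : ι → S.Etale} (hU : EtCoh.Covers U) (n : ι → ℕ)
    (s : ∀ i, Fin (n i) → ToType (F.obj.obj (op (U i))))
    (hs : ∀ i (Ω : Type u) [Field Ω] [IsSepClosed Ω] (ξ : Spec (CommRingCat.of Ω) ⟶ S) (x : Fib ξ (U i)),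
      Function.Bijective fun k => germ ξ F (U i) x (s i k)) :
    ∃ (U : S.Etale) (σU : ToType (F.obj.obj (op U))), IsFinite U.hom ∧
      ∀ (Ω : Type u) [Field Ω] [IsSepClosed Ω] (ξ : Spec (CommRingCat.of Ω) ⟶ S),
        Function.Bijective fun x : Fib ξ U => germ ξ F U x σU := by
  obtain ⟨V, σV, hV, hb⟩ := exists_finite_rep_of_enum_range hU n s (fun _ _ _ _ => Set.univ)
    fun i Ω _ _ ξ x => ⟨(hs i Ω ξ x).1, (hs i Ω ξ x).2.range_eq⟩
  exact ⟨V, σV, hV, fun Ω _ _ ξ => ⟨(hb Ω ξ).1, Set.range_eq_univ.1 (hb Ω ξ).2⟩⟩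

theorem exists_finite_rep (hF : CohProp.IsFinLocConstSet F) :
    ∃ (U : S.Etale) (σU : ToType (F.obj.obj (op U))), IsFinite U.hom ∧
      ∀ (Ω : Type u) [Field Ω] [IsSepClosed Ω] (ξ : Spec (CommRingCat.of Ω) ⟶ S),
        Function.Bijective fun x : Fib ξ U => germ ξ F U x σU := by
  obtain ⟨ι, U, hU, hc⟩ := hF
  choose M hM he using hc
  haveI := hM
  choose n s hs using fun i => exists_enum (he i).some
  exact exists_finite_rep_of_enum hU n s hs

/-- A finite locally constant sheaf of sets is represented by a finite étale scheme. -/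
theorem exists_repSh_iso (hF : CohProp.IsFinLocConstSet F) :
    ∃ (U : S.Etale) (_ : IsFinite U.hom), Nonempty (F ≅ EtDesc.repSh U) := by
  obtain ⟨U, σU, hU, hb⟩ := exists_finite_rep hF
  haveI := hU
  exact ⟨U, hU, nonempty_iso_repSh U σU hb⟩

end LcRepLib
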