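import Groth.Agent.LcRepLib.Build

/-!
# The finite étale scheme representing a split sheaf of sets
-/

set_option autoImplicit false
set_option linter.all false
set_option backward.isDefEq.respectTransparency false
set_option backward.isDefEq.respectTransparency.types false
set_option synthInstance.maxHeartbeats 400000
set_option maxHeartbeats 1000000

universe u

open CategoryTheory CategoryTheory.Limits AlgebraicGeometry Opposite TopologicalSpace
open Groth.Agent.EtShLib

noncomputable section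

namespace LcRepLib

variable {S : Scheme.{u}} {F : EtDesc.Sh S} (W : S.Etale) (σ : ToType (F.obj.obj (op W))) {A : S.Etale} (π : W ⟶ A)
  (hB : ∀ (Ω : Type u) [Field Ω] [IsSepClosed Ω] (ξ : Spec (CommRingCat.of Ω) ⟶ S) (a : Fib ξ A),
    Function.Injective (fun w : {w : Fib ξ W // w.map π = a} => germ ξ F W w.1 σ) ∧
      ∀ v : Fib ξ W, ∃ w : {w : Fib ξ W // w.map π = a}, germ ξ F W w.1 σ = germ ξ F W v σ)

theorem agr_of_rel {T : Scheme.{u}} {a b : T ⟶ W.left} (r : DescLib.Rel (datum W σ π hB) a b) :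
    ∃ h : a ≫ W.hom = b ≫ W.hom, Agr W σ a b h := by
  obtain ⟨h, e⟩ := r
  have hab : a ≫ W.hom = b ≫ W.hom := by
    rw [← MorphismProperty.Over.w π, ← Category.assoc, ← Category.assoc]
    exact h
  refine ⟨hab, ?_⟩
  rintro _ ⟨t, rfl⟩
  have h1 := partner_spec W σ π hB (a ≫ π.left) (b ≫ π.left) h ⟨a, rfl⟩ ⟨t, rfl⟩
  have e' : pullback.lift (f := W.hom) (g := W.hom) a (partner W σ π hB (a ≫ π.left) (b ≫ π.left) h ⟨a, rfl⟩).1
      (lifts_w W π h ⟨a, rfl⟩ _) = pullback.lift a b hab := by
    apply pullback.hom_ext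
    · exact (pullback.lift_fst _ _ _).trans (pullback.lift_fst _ _ _).symm
    · exact (pullback.lift_snd _ _ _).trans (Eq.trans e (pullback.lift_snd _ _ _).symm)
  exact (congrArg (fun z : T ⟶ pullback W.hom W.hom => z.base t ∈ agree W σ) e').mp h1

include hB in
/-- A finite étale scheme with a universal section. -/
theorem exists_universal [Surjective A.hom] [IsFinite π.left] :
    ∃ (U : S.Etale) (σU : ToType (F.obj.obj (op U))), IsFinite U.hom ∧
      ∀ (Ω : Type u) [Field Ω] [IsSepClosed Ω] (ξ : Spec (CommRingCat.of Ω) ⟶ S),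
        Function.Injective (fun x : Fib ξ U => germ ξ F U x σU) ∧
          Set.range (fun x : Fib ξ U => germ ξ F U x σU) = Set.range fun w : Fib ξ W => germ ξ F W w σ := by
  haveI := etale_hom W
  haveI := etale_hom A
  haveI : DescLib.Fpqc A.hom :=
    ⟨Scheme.fppfPrecoverage_le_fpqcPrecoverage _ (Scheme.Hom.singleton_mem_fppfPrecoverage A.hom)⟩
  let D := datum W σ π hB
  haveI : IsAffineHom D.obj.hom := inferInstanceAs (IsAffineHom π.left)
  obtain ⟨U, g, q, hq⟩ := DescLib.exists_isQuot_of_effective _ (DescLib.effective_of_isAffineHom D)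
  have sq : IsPullback q π.left g A.hom := by
    have h := hq.isPullback
    rwa [Category.id_comp] at h
  have hp : (@Surjective ⊓ @Flat ⊓ @LocallyOfFinitePresentation : MorphismProperty Scheme.{u}) A.hom :=
    ⟨⟨inferInstance, inferInstance⟩, inferInstance⟩
  haveI : AlgebraicGeometry.Etale π.left := by
    haveI : AlgebraicGeometry.Etale (π.left ≫ A.hom) := by
      rw [show π.left ≫ A.hom = W.hom from MorphismProperty.Over.w π]
      infer_instance
    exact AlgebraicGeometry.Etale.of_comp π.left A.hom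
  haveI hgf : IsFinite g :=
    MorphismProperty.of_isPullback_of_descendsAlong (P := @IsFinite) sq.flip hp ‹IsFinite π.left›
  haveI hge : AlgebraicGeometry.Etale g :=
    MorphismProperty.of_isPullback_of_descendsAlong (P := @AlgebraicGeometry.Etale) sq.flip hp
      ‹AlgebraicGeometry.Etale π.left›
  let Ue : S.Etale := Scheme.Etale.mk g
  let qE : W ⟶ Ue := MorphismProperty.Over.homMk q
    (sq.w.trans (MorphismProperty.Over.w π))
  haveI : Surjective q := MorphismProperty.of_isPullback sq.flip inferInstance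
  have hagr : ∀ {T : Scheme.{u}} (a b : T ⟶ W.left), a ≫ q = b ≫ q →
      ∃ h : a ≫ W.hom = b ≫ W.hom, Agr W σ a b h := fun a b e =>
    agr_of_rel W σ π hB (by simpa using hq.rel_of_eq e)
  have hsh : Presieve.IsSheafFor F.obj (Presieve.ofArrows (fun _ : PUnit.{u + 1} => W) (fun _ => qE)) := by
    refine (Presieve.isSheafFor_iff_generate _).2
      (((isSheaf_iff_isSheaf_of_type _ _).1 F.property) _ ?_)
    rw [← Sieve.ofArrows]
    exact (Scheme.ofArrows_mem_smallEtaleTopology_iff fun _ : PUnit.{u + 1} => qE).2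
      (Set.eq_univ_of_forall fun y => by
        obtain ⟨w, hw⟩ := q.surjective y
        exact Set.mem_iUnion.2 ⟨⟨⟩, w, hw⟩)
  obtain ⟨σU, hσU, -⟩ := (Presieve.isSheafFor_arrows_iff _ _).1 hsh (fun _ => σ) (fun _ _ Z gi gj e => by
    obtain ⟨h, H⟩ := hagr gi.left gj.left (congrArg (fun z : Z ⟶ Ue => z.left) e)
    refine eq_of_germ F _ _ fun Ω _ _ ξ z => ?_
    rw [germ_res_apply, germ_res_apply]
    exact (agr_iff W σ gi.left gj.left h).1 H Ω z.hom ξ (z.map gi) (z.map gj) rfl rfl)
  have hσ : F.obj.map qE.op σU = σ := hσU ⟨⟩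
  refine ⟨Ue, σU, hgf, fun Ω _ _ ξ => ?_⟩
  have hval : ∀ w : Fib ξ W, germ ξ F Ue (w.map qE) σU = germ ξ F W w σ := fun w => by
    rw [← germ_res_apply, hσ]
  have hex : ∃ a : Fib ξ A, True := by
    obtain ⟨y, hy⟩ := A.hom.surjective (ξ.base default)
    obtain ⟨l, hl, -⟩ := exists_lift_geometric A.hom ξ y hy
    exact ⟨Fib.mk l hl, trivial⟩
  obtain ⟨a, -⟩ := hex
  have hlift : ∀ x : Fib ξ Ue, ∃ w : {w : Fib ξ W // w.map π = a}, w.1.map qE = x := fun x => by
    let l := sq.lift x.hom a.hom (x.w.trans a.w.symm)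
    have hl₁ : l ≫ q = x.hom := sq.lift_fst _ _ _
    have hl₂ : l ≫ π.left = a.hom := sq.lift_snd _ _ _
    let w : Fib ξ W := Fib.mk l (by
      rw [← MorphismProperty.Over.w π, ← Category.assoc, hl₂]
      exact a.w)
    exact ⟨⟨w, Fib.ext hl₂⟩, Fib.ext hl₁⟩
  refine ⟨fun x x' e => ?_, Set.ext fun z => ⟨?_, ?_⟩⟩
  · obtain ⟨w, rfl⟩ := hlift x
    obtain ⟨w', rfl⟩ := hlift x'
    rw [(hB Ω ξ a).1 (((hval w.1).symm.trans e).trans (hval w'.1))]
  · rintro ⟨x, rfl⟩
    obtain ⟨w, rfl⟩ := hlift x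
    exact ⟨w.1, (hval w.1).symm⟩
  · rintro ⟨w, rfl⟩
    exact ⟨w.map qE, hval w⟩

/-- A finite étale scheme with a universal section represents the sheaf. -/
theorem nonempty_iso_repSh (U : S.Etale) [IsFinite U.hom] (σU : ToType (F.obj.obj (op U)))
    (hU : ∀ (Ω : Type u) [Field Ω] [IsSepClosed Ω] (ξ : Spec (CommRingCat.of Ω) ⟶ S),
      Function.Bijective fun x : Fib ξ U => germ ξ F U x σU) : Nonempty (F ≅ EtDesc.repSh U) := by
  haveI := etale_hom U
  let G := yoneda.obj U ⋙ uliftFunctor.{u + 1, u}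
  let ψ : G ⟶ F.obj :=
    { app := fun T => TypeCat.ofHom fun s => F.obj.map s.down.op σU
      naturality := fun T T' k => by
        ext s
        exact ConcreteCategory.congr_hom (F.obj.map_comp s.down.op k) σU }
  haveI : Presheaf.IsLocallyInjective S.smallEtaleTopology ψ :=
    Presheaf.isLocallyInjective_of_injective _ ψ fun T s s' e => by
      refine ULift.ext _ _ (MorphismProperty.Over.Hom.ext (eq_of_geometric U.hom _ _
        ((MorphismProperty.Over.w s.down).trans (MorphismProperty.Over.w s'.down).symm) fun Ω _ _ t => ?_))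
      let z : Fib (t ≫ T.unop.hom) T.unop := Fib.mk t rfl
      have h1 := congrArg (germ _ F T.unop z) e
      change germ _ F T.unop z (F.obj.map s.down.op σU) = germ _ F T.unop z (F.obj.map s'.down.op σU) at h1
      rw [germ_res_apply, germ_res_apply] at h1
      exact congrArg (fun x : Fib _ U => x.hom) ((hU Ω _).1 h1)
  haveI : Presheaf.IsLocallySurjective S.smallEtaleTopology ψ := ⟨fun {T} x => by
    refine S.smallEtaleTopology.superset_covering ?_
      ((Scheme.ofArrows_mem_smallEtaleTopology_iff fun d : {d : Σ (V : S.Etale), (V ⟶ T) × (V ⟶ U) //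
        F.obj.map d.2.2.op σU = F.obj.map d.2.1.op x} => d.1.2.1).2 ?_)
    · rintro V g ⟨V', g', _, ⟨d⟩, rfl⟩
      refine ⟨⟨g' ≫ d.1.2.2⟩, ?_⟩
      show F.obj.map (g' ≫ d.1.2.2).op σU = F.obj.map (g' ≫ d.1.2.1).op x
      rw [op_comp, op_comp, Functor.map_comp, Functor.map_comp, ConcreteCategory.comp_apply,
        ConcreteCategory.comp_apply, d.2]
    · refine Set.eq_univ_of_forall fun y => ?_
      obtain ⟨Ω, _, _, ξ, v, hv⟩ := exists_geometric (U := T) y
      obtain ⟨p, hp⟩ := (hU Ω ξ).2 (germ ξ F T v x)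
      obtain ⟨⟨V, z⟩, g, k, -⟩ := IsCofilteredOrEmpty.cone_objs ((pt ξ).fiber.elementsMk T v)
        ((pt ξ).fiber.elementsMk U p)
      have hg : Fib.map g.1 z = v := g.2
      have hk : Fib.map k.1 z = p := k.2
      have h1 : germ ξ F V z (F.obj.map k.1.op σU) = germ ξ F V z (F.obj.map g.1.op x) := by
        rw [germ_res_apply, germ_res_apply, hg, hk]
        exact hp
      obtain ⟨V', l, z', hl, e⟩ := (germ_eq_iff ξ V z _ _).1 h1
      refine Set.mem_iUnion.2 ⟨⟨⟨V', l ≫ g.1, l ≫ k.1⟩, ?_⟩, z'.pt, ?_⟩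
      · simpa only [op_comp, Functor.map_comp, ConcreteCategory.comp_apply] using e
      · exact ((congrArg (fun w => (Fib.map g.1 w).pt) hl).trans (congrArg Fib.pt hg)).trans hv⟩
  haveI : IsIso ((presheafToSheaf S.smallEtaleTopology (Type (u + 1))).map ψ) :=
    (S.smallEtaleTopology.W_iff ψ).1 (GrothendieckTopology.W_of_isLocallyBijective _ ψ)
  exact ⟨(asIso ((presheafToSheaf S.smallEtaleTopology (Type (u + 1))).map ψ) ≪≫
    asIso ((sheafificationAdjunction S.smallEtaleTopology (Type (u + 1))).counit.app F)).symm⟩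

end LcRepLib
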